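import Cfsg.Agent.Lib.Sporadic.ThOut.Base
import Cfsg.Agent.Lib.KGroups.TripleAlt
import Cfsg.Agent.S2119
import Cfsg.Prelude.Def_KGroupFacts

/-!
# Automorphisms of the presented Thompson group on the centraliser of the involution `a`

After an inner automorphism an automorphism fixes `a`, and on the centraliser it permutes nine points like
the identity or like a transposition. Nine lifts of three-cycles are then mapped to the lifts of the images;
the second case contradicts an equation between the lifts, and in the first the centraliser is fixed.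
-/

set_option autoImplicit false
set_option maxRecDepth 100000

namespace CfsgLib.Sporadic.ThOut

open CfsgLib.Sporadic.ONTriple CfsgLib.Sporadic.ThCent Cfsg.Spor Equiv
open scoped Pointwise

variable (F : Facts)
include F

theorem qE_zero : qE 0 = 1 := qv_zero

theorem qE_top : qE 256 = el 0 := qv_256

theorem inv_qE {n : ℕ} (hn : n < 512) : qE (invQ n) = (qE n)⁻¹ := by
  refine eq_inv_of_mul_eq_one_right ?_
  rw [qE_mul F, (by decide +kernel : ∀ n < 512, mulQ n (invQ n) = 0) n hn, qE_zero F]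

theorem qE_four {n : ℕ} (hn : n < 512) : qE n ^ (2 ^ 2) = 1 := by
  rw [show qE n ^ (2 ^ 2) = qE n ^ 4 from rfl, pow_succ, pow_succ, pow_succ, pow_one, mul_assoc (qE n * qE n)]
  rw [qE_mul F, qE_mul F, (by decide +kernel : ∀ n < 512, mulQ (mulQ n n) (mulQ n n) = 0) n hn, qE_zero F]

theorem ker_isPGroup : IsPGroup 2 (psiT F).ker := by
  rintro ⟨z, hz⟩
  obtain ⟨n, hn, he⟩ := psiT_ker F hz
  refine ⟨2, Subtype.ext (Subtype.ext ?_)⟩
  show (z : Th) ^ (2 ^ 2) = 1
  rw [he, qE_four F hn]

theorem card_CA : Nat.card CA = 92897280 := by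
  rw [← Nat.card_congr (eC F).toEquiv, ← Subgroup.card_mul_index psi.ker, Subgroup.index_ker, card_psi_range,
    ← Nat.card_eq_of_bijective _ (kerF_bij F), Nat.card_fin]

theorem el0_mem : el 0 ∈ CA := Subgroup.mem_centralizer_singleton_iff.2 rfl

theorem exists_fix_a (α : MulAut Th) : ∃ h : Th, (MulAut.conj h * α) (el 0) = el 0 := by
  have := F.finite
  obtain ⟨P⟩ := (inferInstance : Nonempty (Sylow 2 CA))
  have hQP : (psiT F).ker ≤ (P : Subgroup CA) := by
    have hp : IsPGroup 2 ↥((psiT F).ker ⊔ (P : Subgroup CA)) :=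
      (ker_isPGroup F).to_sup_of_normal_left P.2
    exact le_sup_left.trans (le_of_eq (P.is_maximal' hp le_sup_right))
  have hPcard : Nat.card P = 2 ^ 15 := by
    rw [P.card_eq_multiplicity, card_CA F]
    congr 1
    rw [show (92897280 : ℕ) = 2 ^ 15 * 2835 by norm_num, Nat.factorization_mul (by norm_num) (by norm_num),
      Finsupp.add_apply, Nat.Prime.factorization_pow (by norm_num), Finsupp.single_eq_same,
      Nat.factorization_eq_zero_of_not_dvd (by norm_num)]
  let R : Subgroup Th := (P : Subgroup CA).map CA.subtype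
  have hfac : (Nat.card Th).factorization 2 = 15 := by
    rw [F.card, show (90745943887872000 : ℕ) = 2 ^ 15 * 2769346432125 by norm_num,
      Nat.factorization_mul (by norm_num) (by norm_num), Finsupp.add_apply,
      Nat.Prime.factorization_pow (by norm_num), Finsupp.single_eq_same,
      Nat.factorization_eq_zero_of_not_dvd (by norm_num)]
  have hRcard : Nat.card R = 2 ^ 15 := by
    rw [← hPcard]
    exact Subgroup.card_map_of_injective Subtype.coe_injective
  let S : Sylow 2 Th := Sylow.ofCard R (by rw [hRcard, hfac])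
  let T : Sylow 2 Th := Sylow.ofCard (R.map α.toMonoidHom) (by
    rw [Subgroup.card_map_of_injective α.injective, hRcard, hfac])
  obtain ⟨h, hh⟩ := MulAction.exists_smul_eq Th T S
  refine ⟨h, ?_⟩
  obtain ⟨β, hβ⟩ : ∃ β, β = MulAut.conj h * α := ⟨_, rfl⟩
  have hR : R = R.map β.toMonoidHom := by
    have e := congrArg (fun U : Sylow 2 Th => (U : Subgroup Th)) hh
    simp only [Sylow.coe_subgroup_smul] at e
    change MulAut.conj h • R.map α.toMonoidHom = R at e
    conv_lhs => rw [← e]
    rw [hβ, show (MulAut.conj h * α).toMonoidHom = (MulAut.conj h).toMonoidHom.comp α.toMonoidHom from rfl,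
      ← Subgroup.map_map]
    rfl
  rw [← hβ]
  have haR : el 0 ∈ R := by
    refine ⟨⟨el 0, el0_mem F⟩, hQP ?_, rfl⟩
    rw [MonoidHom.mem_ker]
    have : (⟨el 0, el0_mem F⟩ : CA) = ⟨qE 256, qE_mem F (by norm_num)⟩ := Subtype.ext (qE_top F).symm
    rw [this]
    exact psiT_qE F (by norm_num)
  have hbR : β (el 0) ∈ R := hR.ge ⟨el 0, haR, rfl⟩
  obtain ⟨z, -, hz⟩ := hbR
  have hzc : ∀ x ∈ R, β (el 0) * x = x * β (el 0) := by
    intro x hx
    obtain ⟨y, ⟨w, -, rfl⟩, rfl⟩ := hR.le hx
    show β (el 0) * β w = β w * β (el 0)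
    rw [← map_mul, ← map_mul, Subgroup.mem_centralizer_singleton_iff.1 w.2]
  have hc := central_elt F z fun i hi => by
    show (z : Th) * gQ i = gQ i * z
    rw [show (z : Th) = β (el 0) from hz]
    refine hzc _ ⟨⟨gQ i, word_mem F (words_ok.1 i hi)⟩, hQP ?_, rfl⟩
    rw [MonoidHom.mem_ker]
    refine Equiv.ext fun p => ?_
    show psiT F ⟨ev el (qgW.getD i []), _⟩ p = _
    rw [psiT_word F (words_ok.1 i hi), qg_perm i hi]; rfl
  have hne : β (el 0) ≠ 1 := fun e => (anti F).ne ((map_eq_one_iff β β.injective).1 e)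
  rw [show (z : Th) = β (el 0) from hz] at hc
  exact hc.resolve_left hne

/-- The restriction to the centraliser. -/
noncomputable def resC (α : MulAut Th) (hα : α (el 0) = el 0) : MulAut CA where
  toFun c := ⟨α c, Subgroup.mem_centralizer_singleton_iff.2 (by
    have h := congrArg α (Subgroup.mem_centralizer_singleton_iff.1 c.2)
    rwa [map_mul, map_mul, hα] at h)⟩
  invFun c := ⟨α.symm c, Subgroup.mem_centralizer_singleton_iff.2 (by
    have h := congrArg α.symm (Subgroup.mem_centralizer_singleton_iff.1 c.2)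
    rwa [map_mul, map_mul, show α.symm (el 0) = el 0 by rw [MulEquiv.symm_apply_eq, hα]] at h)⟩
  left_inv c := Subtype.ext (α.symm_apply_apply _)
  right_inv c := Subtype.ext (α.apply_symm_apply _)
  map_mul' c d := Subtype.ext (map_mul α _ _)

theorem exists_pi (r : MulAut CA) : ∃ π : Perm (Fin 9), ∀ c : CA, psiT F (r c) = π * psiT F c * π⁻¹ := by
  have : IsSimpleGroup (alternatingGroup (Fin 9)) := alternatingGroup.isSimpleGroup (by simp)
  let p : CA →* alternatingGroup (Fin 9) :=
    (psiT F).codRestrict _ fun x => by rw [← psiT_range F]; exact ⟨x, rfl⟩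
  have hp : Function.Surjective p := fun a => by
    obtain ⟨x, hx⟩ : a.1 ∈ (psiT F).range := by rw [psiT_range F]; exact a.2
    exact ⟨x, Subtype.ext hx⟩
  have hps : ∀ c, p c = 1 ↔ psiT F c = 1 := fun c => Subtype.ext_iff
  have hker : ∀ c, p c = 1 → p (r c) = 1 := by
    intro c hc
    let f : CA →* alternatingGroup (Fin 9) := p.comp r.toMonoidHom
    have hf : Function.Surjective f := hp.comp r.surjective
    rcases (Subgroup.Normal.map (H := p.ker) inferInstance f hf).eq_bot_or_eq_top with hb | ht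
    · have hm : f c ∈ p.ker.map f := Subgroup.mem_map_of_mem f hc
      rw [hb, Subgroup.mem_bot] at hm
      exact hm
    · exfalso
      have hs : p ⟨ev el [5], word_mem F (show kW [5] = true from rfl)⟩ ∈ p.ker.map f := by rw [ht]; exact Subgroup.mem_top _
      obtain ⟨y, hy, hys⟩ := hs
      obtain ⟨n, hn, he⟩ := psiT_ker F ((hps y).1 hy)
      have hy4 : y ^ (2 ^ 2) = 1 := Subtype.ext (by rw [Subgroup.coe_pow, he, qE_four F hn]; rfl)
      have h4 : psiT F ⟨ev el [5], word_mem F (show kW [5] = true from rfl)⟩ ^ (2 ^ 2) = 1 := by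
        have e := congrArg (fun a => ((a ^ (2 ^ 2) : alternatingGroup (Fin 9)) : Perm (Fin 9))) hys
        simp only [← map_pow, hy4, map_one] at e
        rw [← map_pow]
        exact e.symm
      have h5 := DFunLike.congr_fun h4 (2 : Fin 9)
      have key : ∀ k (q : Fin 9), (psiT F ⟨ev el [5], word_mem F (show kW [5] = true from rfl)⟩ ^ k) q =
          (fun x => pAt [5] x)^[k] q := by
        intro k
        induction k with
        | zero => intro q; rfl
        | succ k ih =>
          intro q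
          rw [pow_succ, Perm.mul_apply, ih, Function.iterate_succ_apply, psiT_word F (show kW [5] = true from rfl)]
      rw [key] at h5
      revert h5
      simp only [Equiv.Perm.one_apply]
      decide +kernel
  let ψ : alternatingGroup (Fin 9) →* alternatingGroup (Fin 9) :=
    MonoidHom.mk' (fun a => p (r (hp a).choose)) fun a b => by
      have h := hker ((hp (a * b)).choose⁻¹ * ((hp a).choose * (hp b).choose)) (by
        rw [map_mul, map_inv, map_mul, (hp (a * b)).choose_spec, (hp a).choose_spec, (hp b).choose_spec,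
          inv_mul_cancel])
      rw [map_mul, map_mul, map_inv, map_mul, map_inv, map_mul, inv_mul_eq_one] at h
      exact h
  have hψ : ∀ c, ψ (p c) = p (r c) := fun c => by
    have h := hker ((hp (p c)).choose⁻¹ * c) (by rw [map_mul, map_inv, (hp (p c)).choose_spec, inv_mul_cancel])
    rw [map_mul, map_mul, map_inv, map_inv, inv_mul_eq_one] at h
    exact h
  have hψs : Function.Surjective ψ := fun a => by
    obtain ⟨c, rfl⟩ := hp a
    exact ⟨p (r.symm c), by rw [hψ, r.apply_symm_apply]⟩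
  obtain ⟨π, hπ⟩ := (Cfsg.Agent.S2119.result 9 (by norm_num) (by norm_num)).2
    (MulEquiv.ofBijective ψ ⟨Finite.injective_iff_surjective.2 hψs, hψs⟩)
  refine ⟨π, fun c => ?_⟩
  show ((p (r c) : alternatingGroup (Fin 9)) : Perm (Fin 9)) = _
  rw [← hψ, show ψ (p c) = MulAut.conjNormal π (p c) by rw [hπ]; rfl, MulAut.conjNormal_apply]
  rfl

omit F

/-- The lifts of the images for the two cases. -/
def imgX (swapped : Bool) : List (List ℕ) := if swapped then yW else xW

/-- The permutation of the two cases. -/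
def piX (swapped : Bool) : Perm (Fin 9) := if swapped then swap 3 4 else 1

theorem imgX_ok (b : Bool) : (∀ j < 9, kW ((imgX b).getD j []) = true) ∧
    (∀ j < 9, ∀ p, pAt ((imgX b).getD j []) p = piX b (pAt (xW.getD j []) (piX b p))) := by
  cases b
  · exact ⟨words_ok.2.1, fun j _ p => rfl⟩
  · refine ⟨words_ok.2.2.1, fun j hj p => ?_⟩
    have hs : ∀ q : Fin 9, sw34 q = (swap 3 4 : Perm (Fin 9)) q := by decide +kernel
    show pAt (yW.getD j []) p = _
    rw [y_perm j hj, hs, hs]
    rfl

include F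

theorem imgX_facts (b : Bool) :
    (∀ j < 9, ev el ((imgX b).getD j []) * ev el ((imgX b).getD j []) * ev el ((imgX b).getD j []) = 1) ∧
    (∀ j < 9, ev el ((imgX b).getD j []) * ev el ((imgX b).getD (parX j) []) =
      ev el ((imgX b).getD (parX j) []) * ev el ((imgX b).getD j [])) ∧
    (∀ j ∈ [6, 7, 8], ∀ n < 512, actQ (wordT ((imgX b).getD j [])) n = n → n % 256 = 0) := by
  cases b
  · refine ⟨fun j hj => ?_, fun j hj => ?_, free_x⟩
    · have e := eqK_ev F (x_cube j hj)
      rwa [ev_append, ev_append, ev_nil] at e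
    · have e := eqK_ev F (x_comm j hj)
      rwa [ev_append, ev_append] at e
  · refine ⟨fun j hj => ?_, fun j hj => ?_, free_y⟩
    · have e := eqK_ev F (y_cube j hj)
      rwa [ev_append, ev_append, ev_nil] at e
    · have e := eqK_ev F (y_comm j hj)
      rwa [ev_append, ev_append] at e

theorem only_trivial {n : ℕ} (hn : n < 512) (h0 : n % 256 = 0) {y : Th} (hy : y ∈ CA)
    (hy3 : y * y * y = 1) (h3 : qE n * y * (qE n * y) * (qE n * y) = 1) : n = 0 := by
  rcases (by decide : ∀ n < 512, n % 256 = 0 → n = 0 ∨ n = 256) n hn h0 with rfl | rfl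
  · rfl
  · exfalso
    rw [qE_top F] at h3
    refine (anti F).ne ?_
    have c : Commute (el 0) y := (Subgroup.mem_centralizer_singleton_iff.1 hy).symm
    calc el 0 = el 0 * el 0 * el 0 * (y * y * y) := by rw [(anti F).zz, one_mul, hy3, mul_one]
      _ = el 0 * y * (el 0 * y) * (el 0 * y) := by
        simp only [mul_assoc, c.symm.left_comm, c.symm.eq]
      _ = 1 := h3

theorem chain_step {β : MulAut Th} (hβ : β (el 0) = el 0) {b : Bool}
    (hπ : ∀ c : CA, psiT F (resC β hβ c) = piX b * psiT F c * (piX b)⁻¹) {j : ℕ} (hj : j < 9)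
    (hpar : β (ev el (xW.getD (parX j) [])) = ev el ((imgX b).getD (parX j) [])) :
    β (ev el (xW.getD j [])) = ev el ((imgX b).getD j []) := by
  obtain ⟨hc3, hcomm, hfree⟩ := imgX_facts F b
  obtain ⟨hk, hperm⟩ := imgX_ok b
  obtain ⟨x, hx⟩ : ∃ x : CA, x = ⟨ev el (xW.getD j []), word_mem F (words_ok.2.1 j hj)⟩ := ⟨_, rfl⟩
  obtain ⟨y, hy⟩ : ∃ y : CA, y = ⟨ev el ((imgX b).getD j []), word_mem F (hk j hj)⟩ := ⟨_, rfl⟩
  have hpsi : psiT F (resC β hβ x * y⁻¹) = 1 := by
    rw [map_mul, map_inv, mul_inv_eq_one, hπ]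
    refine Equiv.ext fun p => ?_
    have hinv : (piX b)⁻¹ = piX b := by cases b <;> simp [piX]
    rw [hinv, Perm.mul_apply, Perm.mul_apply, hx, psiT_word F (words_ok.2.1 j hj), hy, psiT_word F (hk j hj),
      hperm j hj]
  obtain ⟨n, hn, he⟩ := psiT_ker F hpsi
  have hval : β (ev el (xW.getD j [])) = qE n * ev el ((imgX b).getD j []) := by
    rw [← he, hx, hy]
    show _ = β (ev el (xW.getD j [])) * (ev el ((imgX b).getD j []))⁻¹ * _
    rw [inv_mul_cancel_right]
  have hp9 : parX j < 9 ∧ parX j ∈ [6, 7, 8] := (by decide : ∀ j < 9, parX j < 9 ∧ parX j ∈ [6, 7, 8]) j hj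
  have hfix : qE n * ev el ((imgX b).getD (parX j) []) = ev el ((imgX b).getD (parX j) []) * qE n := by
    have e : β (ev el (xW.getD j []) * ev el (xW.getD (parX j) [])) =
        β (ev el (xW.getD (parX j) []) * ev el (xW.getD j [])) := by
      have := (imgX_facts F false).2.1 j hj
      exact congrArg β this
    rw [map_mul, map_mul, hpar, hval, mul_assoc, hcomm j hj, ← mul_assoc, ← mul_assoc] at e
    exact mul_right_cancel e
  rw [act_table F (hk _ hp9.1), mul_left_inj] at hfix
  have h0 := hfree _ hp9.2 n hn (qE_inj F (actQ_lt _ _) hn hfix.symm)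
  have hn0 := only_trivial F hn h0 (word_mem F (hk j hj)) (hc3 j hj) (by
    have := congrArg β ((imgX_facts F false).1 j hj)
    rwa [map_mul, map_mul, map_one, show imgX false = xW from rfl, hval] at this)
  rw [hval, hn0, qE_zero F, one_mul]

theorem chain {β : MulAut Th} (hβ : β (el 0) = el 0) {b : Bool}
    (hπ : ∀ c : CA, psiT F (resC β hβ c) = piX b * psiT F c * (piX b)⁻¹)
    (h6 : β (ev el (xW.getD 6 [])) = ev el ((imgX b).getD 6 [])) :
    ∀ j < 9, β (ev el (xW.getD j [])) = ev el ((imgX b).getD j []) := by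
  have h7 := chain_step F hβ hπ (j := 7) (by norm_num) h6
  have h8 := chain_step F hβ hπ (j := 8) (by norm_num) h6
  intro j hj
  interval_cases j
  exacts [chain_step F hβ hπ (by norm_num) h8, chain_step F hβ hπ (by norm_num) h8,
    chain_step F hβ hπ (by norm_num) h8, chain_step F hβ hπ (by norm_num) h7,
    chain_step F hβ hπ (by norm_num) h7, chain_step F hβ hπ (by norm_num) h7, h6, h7, h8]

theorem xword_map {β : MulAut Th} {b : Bool}
    (hX : ∀ j < 9, β (ev el (xW.getD j [])) = ev el ((imgX b).getD j [])) :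
    ∀ L : List (ℕ × Bool), (∀ p ∈ L, p.1 < 9) → β (ev el (xWord xW L)) = ev el (xWord (imgX b) L) := by
  intro L
  induction L with
  | nil => intro _; simp [xWord]
  | cons p L ih =>
    intro hL
    have hp := hL p List.mem_cons_self
    have e : ∀ X : List (List ℕ), xWord X (p :: L) =
        (if p.2 then X.getD p.1 [] else invW (X.getD p.1 [])) ++ xWord X L := fun X => rfl
    rw [e, e, ev_append, ev_append, map_mul, ih fun q hq => hL q (List.mem_cons_of_mem _ hq)]
    congr 1
    cases p.2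
    · simp only [Bool.false_eq_true, if_false]
      rw [ev_invW F.inj fun x hx => (kW_lt (words_ok.2.1 p.1 hp) x hx).1,
        ev_invW F.inj fun x hx => (kW_lt ((imgX_ok b).1 p.1 hp) x hx).1, map_inv, hX p.1 hp]
    · simp only [if_true]; exact hX p.1 hp

/-- After an inner automorphism the seventh lift is fixed. -/
theorem exists_fix_x {β : MulAut Th} (hβ : β (el 0) = el 0) {b : Bool}
    (hπ : ∀ c : CA, psiT F (resC β hβ c) = piX b * psiT F c * (piX b)⁻¹) :
    ∃ (q : Th) (hq : (MulAut.conj q * β) (el 0) = el 0),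
      (∀ c : CA, psiT F (resC (MulAut.conj q * β) hq c) = piX b * psiT F c * (piX b)⁻¹) ∧
      (MulAut.conj q * β) (ev el (xW.getD 6 [])) = ev el ((imgX b).getD 6 []) := by
  have h6 : (imgX b).getD 6 [] = xW.getD 6 [] := by cases b <;> rfl
  rw [h6]
  have hk6 := words_ok.2.1 6 (by norm_num)
  obtain ⟨x, hx⟩ : ∃ x : CA, x = ⟨ev el (xW.getD 6 []), word_mem F hk6⟩ := ⟨_, rfl⟩
  have hpsi : psiT F (resC β hβ x * x⁻¹) = 1 := by
    rw [map_mul, map_inv, mul_inv_eq_one, hπ]
    refine Equiv.ext fun p => ?_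
    have hinv : (piX b)⁻¹ = piX b := by cases b <;> simp [piX]
    rw [hinv, Perm.mul_apply, Perm.mul_apply, hx, psiT_word F hk6]
    have e := (imgX_ok b).2 6 (by norm_num) p
    rw [h6] at e
    rw [psiT_word F hk6]
    exact e.symm
  obtain ⟨n, hn, he⟩ := psiT_ker F hpsi
  obtain ⟨y, hy⟩ : ∃ y, y = ev el (xW.getD 6 []) := ⟨_, rfl⟩
  have hval : β y = qE n * y := by
    rw [← he, hx, hy]
    show _ = β (ev el (xW.getD 6 [])) * (ev el (xW.getD 6 []))⁻¹ * _
    rw [inv_mul_cancel_right]
  obtain ⟨m, hm⟩ : ∃ m, m = normT.getD (n % 256) 0 := ⟨_, rfl⟩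
  obtain ⟨hm2, hnorm⟩ := norm_ok (n % 256) (Nat.mod_lt _ (by norm_num))
  rw [← hm] at hnorm hm2
  obtain ⟨k, hk⟩ : ∃ k, k = mulQ m (invQ (actQ (wordT (xW.getD 6 [])) m)) := ⟨_, rfl⟩
  rw [← hk] at hnorm
  have hm512 : m < 512 := by omega
  have hk512 : k < 512 := hk ▸ mulQ_lt hm512
  have hconj : qE m * y * (qE m)⁻¹ = qE k * y := by
    have e : y * qE m = qE (actQ (wordT (xW.getD 6 [])) m) * y := hy ▸ act_table F hk6 m
    rw [hk, ← qE_mul F, inv_qE F (actQ_lt _ _), mul_assoc (qE m), mul_assoc (qE m)]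
    congr 1
    rw [eq_inv_mul_iff_mul_eq, ← mul_assoc, ← e, mul_inv_cancel_right]
  obtain ⟨d, hd0, hd⟩ : ∃ d < 512, d % 256 = 0 ∧ qE n = qE d * qE k := by
    refine ⟨mulQ n (invQ k), mulQ_lt hn, ?_, ?_⟩
    · have : ∀ j < 8, (mulQ n (invQ k)).testBit j = false := by
        intro j hj
        rw [mulQ_testBit _ _ hj, invQ_testBit _ hj]
        have h1 := Nat.testBit_mod_two_pow n 8 j
        have h2 := Nat.testBit_mod_two_pow k 8 j
        rw [show (2 : ℕ) ^ 8 = 256 from rfl, decide_eq_true hj, Bool.true_and] at h1 h2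
        rw [← h1, ← h2, hnorm, Bool.xor_self]
      refine Nat.eq_of_testBit_eq fun j => ?_
      rw [show (256 : ℕ) = 2 ^ 8 from rfl, Nat.testBit_mod_two_pow, Nat.zero_testBit]
      rcases lt_or_ge j 8 with hj | hj
      · rw [this j hj, Bool.and_false]
      · rw [decide_eq_false (by omega), Bool.false_and]
    · rw [← qE_mul F, inv_qE F hk512, inv_mul_cancel_right]
  have hc : ∀ z ∈ CA, Commute (qE d) z := by
    intro z hz
    rcases (by decide : ∀ n < 512, n % 256 = 0 → n = 0 ∨ n = 256) d hd0 hd.1 with rfl | rfl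
    · rw [qE_zero F]; exact Commute.one_left _
    · rw [qE_top F]; exact (Subgroup.mem_centralizer_singleton_iff.1 hz).symm
  have hqm : qE m ∈ CA := qE_mem F hm512
  obtain ⟨γ, hγ⟩ : ∃ γ, γ = MulAut.conj (qE m)⁻¹ * β := ⟨_, rfl⟩
  have hγ0 : γ (el 0) = el 0 := by
    rw [hγ, MulAut.mul_apply, hβ, MulAut.conj_apply, inv_inv, mul_assoc,
      ← Subgroup.mem_centralizer_singleton_iff.1 hqm, inv_mul_cancel_left]
  have hγy : γ y = qE d * y := by
    rw [hγ, MulAut.mul_apply, hval, MulAut.conj_apply, inv_inv, hd.2, mul_assoc (qE d), ← hconj,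
      ← mul_assoc, ← (hc _ (inv_mem hqm)).eq]
    group
  have hd' : d = 0 := only_trivial F hd0 hd.1 (hy ▸ word_mem F hk6) (hy ▸ (imgX_facts F false).1 6 (by norm_num)) (by
    have := congrArg γ (show y * y * y = 1 from hy ▸ (imgX_facts F false).1 6 (by norm_num))
    rwa [map_mul, map_mul, map_one, hγy] at this)
  subst hγ
  refine ⟨(qE m)⁻¹, hγ0, fun c => ?_, ?_⟩
  · rw [← hπ c]
    have e : resC (MulAut.conj (qE m)⁻¹ * β) hγ0 c =
        (⟨qE m, hqm⟩ : CA)⁻¹ * resC β hβ c * ⟨qE m, hqm⟩ := Subtype.ext (by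
      show MulAut.conj (qE m)⁻¹ (β c) = _
      rw [MulAut.conj_apply, inv_inv]; rfl)
    rw [e, map_mul, map_mul, map_inv, psiT_qE F hm512, inv_one, one_mul, mul_one]
  · rw [← hy, hγy, hd', qE_zero F, one_mul]

/-- The transposition does not occur and the centraliser is fixed. -/
theorem fix_CA {β : MulAut Th} (hβ : β (el 0) = el 0) {b : Bool}
    (hX : ∀ j < 9, β (ev el (xW.getD j [])) = ev el ((imgX b).getD j [])) : ∀ c ∈ CA, β c = c := by
  have hl : (∀ p ∈ killL, p.1 < 9) ∧ (∀ p ∈ killR, p.1 < 9) ∧ (∀ p ∈ spanL, p.1 < 9) ∧ killE = [] := by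
    decide
  cases b
  swap
  · exfalso
    have e := eqK_ev F kill_eq
    rw [hl.2.2.2, List.nil_append] at e
    have e' := congrArg β e
    rw [xword_map F hX _ hl.1, xword_map F hX _ hl.2.1] at e'
    exact ne_of_diffV kill_ne (by rw [hl.2.2.2, List.nil_append]; exact e')
  let H : Subgroup Th :=
    { carrier := {z | β z = z}
      one_mem' := map_one β
      mul_mem' := fun {u v} (hu : β u = u) (hv : β v = v) => show β (u * v) = u * v by rw [map_mul, hu, hv]
      inv_mem' := fun {u} (hu : β u = u) => show β u⁻¹ = u⁻¹ by rw [map_inv, hu] }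
  have hXH : ∀ j < 9, ev el (xW.getD j []) ∈ H := hX
  have hA : ∀ z ∈ CA, ∃ h ∈ H, ∃ n < 512, z = h * qE n := by
    intro z hz
    let f : Fin 7 → Perm (Fin 9) := fun i => swap 0 1 * swap 1 ⟨i.1 + 2, by omega⟩
    have hle : alternatingGroup (Fin 9) ≤ (H.comap CA.subtype).map (psiT F) := by
      rw [← CfsgLib.KGroups.TripleAlt.closure_eq_alternating f
        (fun i => Perm.mem_alternatingGroup.2 (by revert i; decide +kernel))
        (by decide +kernel) (by decide +kernel), Subgroup.closure_le]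
      rintro - ⟨i, rfl⟩
      have hj : [6, 0, 1, 2, 3, 4, 5].getD i.1 0 < 9 :=
        (by decide : ∀ i : Fin 7, [6, 0, 1, 2, 3, 4, 5].getD i.1 0 < 9) i
      refine ⟨⟨_, word_mem F (words_ok.2.1 _ hj)⟩, hXH _ hj, Equiv.ext fun p => ?_⟩
      rw [psiT_word F (words_ok.2.1 _ hj), cyc_perm i p]
    obtain ⟨h, hh, hhe⟩ := hle (show psiT F ⟨z, hz⟩ ∈ alternatingGroup (Fin 9) by
      rw [← psiT_range F]; exact ⟨_, rfl⟩)
    obtain ⟨n, hn, he⟩ := psiT_ker F (z := h⁻¹ * ⟨z, hz⟩) (by rw [map_mul, map_inv, hhe, inv_mul_cancel])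
    refine ⟨h, hh, n, hn, ?_⟩
    rw [← he]
    show z = (h : Th) * ((h : Th)⁻¹ * z)
    rw [mul_inv_cancel_left]
  have ha : el 0 ∈ H := hβ
  have htop : ∀ d < 512, d % 256 = 0 → qE d ∈ H := by
    intro d hd h0
    rcases (by decide : ∀ n < 512, n % 256 = 0 → n = 0 ∨ n = 256) d hd h0 with rfl | rfl
    · rw [qE_zero F]; exact one_mem _
    · rw [qE_top F]; exact ha
  have hlow : ∀ {k l : ℕ}, k < 512 → l < 512 → k % 256 = l % 256 → qE l ∈ H → qE k ∈ H := by
    intro k l hk hl e hlH
    have : qE (mulQ k (invQ l)) ∈ H := htop _ (mulQ_lt hk) (by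
      refine Nat.eq_of_testBit_eq fun j => ?_
      rw [show (256 : ℕ) = 2 ^ 8 from rfl, Nat.testBit_mod_two_pow, Nat.zero_testBit]
      rcases lt_or_ge j 8 with hj | hj
      · have h1 := congrArg (Nat.testBit · j) e
        simp only [show (256 : ℕ) = 2 ^ 8 from rfl, Nat.testBit_mod_two_pow, decide_eq_true hj,
          Bool.true_and] at h1
        rw [mulQ_testBit _ _ hj, invQ_testBit _ hj, h1, Bool.xor_self, Bool.and_false]
      · rw [decide_eq_false (by omega), Bool.false_and])
    have e2 : qE k = qE (mulQ k (invQ l)) * qE l := by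
      rw [← qE_mul F, inv_qE F hl, inv_mul_cancel_right]
    rw [e2]
    exact mul_mem this hlH
  have hN : qE spanN ∈ H := by
    have e := eqK_ev F span_ok
    rw [qE_word F] at e
    rw [← e]
    show β _ = _
    exact xword_map F hX spanL hl.2.2.1
  have hspan : spanN < 512 := by decide
  have hg : ∀ i < 8, gQ i ∈ H := by
    intro i hi
    have hw := words_ok.2.2.2.2.2.2.2.2.2 i hi
    obtain ⟨h, hh, m, hm, he⟩ := hA _ (word_mem F hw)
    have e1 : ev el (spanP.getD i []) * qE spanN * (ev el (spanP.getD i []))⁻¹ = qE (actW (spanP.getD i []) spanN) := by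
      rw [act_word F hw, mul_inv_cancel_right]
    have e2 : qE m * qE spanN * (qE m)⁻¹ = qE (mulQ (mulQ m spanN) (invQ m)) := by
      rw [← inv_qE F hm, qE_mul F, qE_mul F]
    have hin : qE (actW (spanP.getD i []) spanN) ∈ H := by
      rw [← e1, he, mul_inv_rev, show h * qE m * qE spanN * ((qE m)⁻¹ * h⁻¹) =
        h * (qE m * qE spanN * (qE m)⁻¹) * h⁻¹ by group, e2]
      refine mul_mem (mul_mem hh (hlow (mulQ_lt (mulQ_lt hm)) hspan ?_ hN)) (inv_mem hh)
      refine Nat.eq_of_testBit_eq fun j => ?_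
      rw [show (256 : ℕ) = 2 ^ 8 from rfl, Nat.testBit_mod_two_pow, Nat.testBit_mod_two_pow]
      rcases lt_or_ge j 8 with hj | hj
      · rw [mulQ_testBit _ _ hj, mulQ_testBit _ _ hj, invQ_testBit _ hj]
        cases m.testBit j <;> simp
      · rw [decide_eq_false (by omega)]; rfl
    have h2 : qE (2 ^ i) ∈ H := hlow (lt_of_lt_of_le (Nat.pow_lt_pow_right (by norm_num) hi) (by norm_num))
      (actW_lt hspan) (by rw [span_path i hi]; exact Nat.mod_eq_of_lt ((Nat.pow_lt_pow_right (show 1 < 2 by norm_num) hi).trans_eq (by norm_num))) hin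
    rwa [show qE (2 ^ i) = gQ i from qv_two_pow (anti F) hi] at h2
  have hq : ∀ n, qE n ∈ H := by
    intro n
    have : ∀ k ≤ 8, qp gQ n k ∈ H := by
      intro k
      induction k with
      | zero => intro _; exact one_mem _
      | succ k ih =>
        intro hk
        refine mul_mem (ih (by omega)) ?_
        split
        · exact hg k (by omega)
        · exact one_mem _
    refine mul_mem (this 8 le_rfl) ?_
    cases n.testBit 8
    · exact one_mem _
    · exact ha
  intro c hc
  obtain ⟨h, hh, n, hn, rfl⟩ := hA c hc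
  exact mul_mem (show h ∈ H from hh) (hq n)

/-- After an inner automorphism every automorphism fixes the centraliser pointwise. -/
theorem exists_fix_CA (α : MulAut Th) : ∃ g : Th, ∀ c ∈ CA, (MulAut.conj g * α) c = c := by
  obtain ⟨h, hh⟩ := exists_fix_a F α
  obtain ⟨α', hα'⟩ : ∃ α', α' = MulAut.conj h * α := ⟨_, rfl⟩
  rw [← hα'] at hh
  obtain ⟨π, hπ⟩ := exists_pi F (resC α' hh)
  obtain ⟨ρ, hρ1, b, hρ2⟩ : ∃ ρ : Perm (Fin 9), Perm.sign ρ = 1 ∧ ∃ b, ρ * π = piX b := by
    rcases Int.units_eq_one_or (Perm.sign π) with h | h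
    · exact ⟨π⁻¹, by rw [map_inv, h, inv_one], false, inv_mul_cancel π⟩
    · refine ⟨swap 3 4 * π⁻¹, ?_, true, inv_mul_cancel_right _ _⟩
      rw [map_mul, map_inv, h, Perm.sign_swap (by decide)]
      rfl
  obtain ⟨d, hd⟩ : ρ ∈ (psiT F).range := by rw [psiT_range F]; exact Perm.mem_alternatingGroup.2 hρ1
  obtain ⟨β, hβdef⟩ : ∃ β, β = MulAut.conj (d : Th) * α' := ⟨_, rfl⟩
  have hβ : β (el 0) = el 0 := by
    rw [hβdef, MulAut.mul_apply, hh, MulAut.conj_apply, Subgroup.mem_centralizer_singleton_iff.1 d.2,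
      mul_inv_cancel_right]
  have hperm : ∀ c : CA, psiT F (resC β hβ c) = piX b * psiT F c * (piX b)⁻¹ := by
    intro c
    have e : resC β hβ c = d * resC α' hh c * d⁻¹ := Subtype.ext (by
      show β c = _
      rw [hβdef]; rfl)
    rw [e, map_mul, map_mul, map_inv, hπ, hd, ← hρ2]
    group
  obtain ⟨q, hq, hπ', h6⟩ := exists_fix_x F hβ hperm
  refine ⟨q * (d : Th) * h, ?_⟩
  have e : MulAut.conj (q * (d : Th) * h) * α = MulAut.conj q * β := by
    rw [hβdef, hα', map_mul, map_mul, mul_assoc, mul_assoc]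
  rw [e]
  exact fix_CA F hq (chain F hq hπ' h6)

end CfsgLib.Sporadic.ThOut
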