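import Cfsg.Agent.Lib.Sporadic.ThOut.Defs

/-!
# Finite checks on points and on the extraspecial group
-/

set_option autoImplicit false
set_option maxRecDepth 100000
set_option Elab.async false

namespace CfsgLib.Sporadic.ThOut

theorem words_ok : (∀ i < 8, kW (qgW.getD i []) = true) ∧ (∀ j < 9, kW (xW.getD j []) = true) ∧
    (∀ j < 9, kW (yW.getD j []) = true) ∧ kW aV = true ∧ kW tV = true ∧ kW vW = false ∧ okW vW = true ∧
    (∀ k < 9, kW (rowW.getD k []) = true) ∧ (∀ k < 3, kW (eW.getD k []) = true) ∧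
    (∀ i < 8, kW (spanP.getD i []) = true) := by decide +kernel

theorem qg_perm : ∀ i < 8, ∀ p : Fin 9, pAt (qgW.getD i []) p = p := by decide +kernel

theorem y_perm : ∀ j < 9, ∀ p : Fin 9, pAt (yW.getD j []) p = sw34 (pAt (xW.getD j []) (sw34 p)) := by
  decide +kernel

theorem cyc_perm : ∀ i : Fin 7, ∀ p : Fin 9, pAt (xW.getD ([6, 0, 1, 2, 3, 4, 5].getD i.1 0) []) p =
    (Equiv.swap 0 1 * Equiv.swap 1 ⟨i.1 + 2, by omega⟩ : Equiv.Perm (Fin 9)) p := by decide +kernel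

theorem free_x : ∀ j ∈ [6, 7, 8], ∀ n < 512, actQ (wordT (xW.getD j [])) n = n → n % 256 = 0 := by
  decide +kernel

theorem free_y : ∀ j ∈ [6, 7, 8], ∀ n < 512, actQ (wordT (yW.getD j [])) n = n → n % 256 = 0 := by
  decide +kernel

theorem norm_ok : ∀ n < 256, normT.getD n 0 < 256 ∧
    mulQ (normT.getD n 0) (invQ (actQ (wordT (xW.getD 6 [])) (normT.getD n 0))) % 256 = n := by
  decide +kernel

theorem span_path : ∀ i < 8, actW (spanP.getD i []) spanN % 256 = 2 ^ i := by decide +kernel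

/-- The values of a permutation commuting with the image of `t`, from five of them. -/
def mkP (x0 x1 x2 : Fin 3) (y z : Fin 9) : List ℕ :=
  [x0.1, x1.1, x2.1, y.1, (pAt tV y).1, z.1, (pAt tV (pAt tV y)).1, (pAt tV (pAt tV z)).1, (pAt tV z).1]

/-- The value at a point. -/
def atP (L : List ℕ) (p : Fin 9) : Fin 9 := Fin.ofNat 9 (L.getD p.1 0)

theorem t_perm : pAt tV 3 = 4 ∧ pAt tV 4 = 6 ∧ pAt tV 5 = 8 ∧ pAt tV 8 = 7 ∧ pAt tV 0 = 0 ∧ pAt tV 1 = 1 ∧
    pAt tV 2 = 2 ∧ ∀ p : Fin 9, pAt tV p = p → p.1 < 3 := by decide +kernel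

theorem surv_ok : ∀ x0 x1 x2 : Fin 3, ∀ y z : Fin 9,
    (∀ p : Fin 9, atP (mkP x0 x1 x2 y z) (atP (mkP x0 x1 x2 y z) p) = p ∧
      pAt aV (atP (mkP x0 x1 x2 y z) (pAt aV (atP (mkP x0 x1 x2 y z) (pAt aV (atP (mkP x0 x1 x2 y z) p))))) = p) →
    mkP x0 x1 x2 y z ∈ survP := by decide +kernel

theorem surv_row : ∀ k < 9, ∀ p : Fin 9, pAt (rowW.getD k []) p = atP (survP.getD k []) p := by decide +kernel

/-- The conditions on a candidate. -/
def candOK (T Ta Tt Tu : List ℕ) (d s c : ℕ) (n : ℕ) : Bool :=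
  (List.range 3).all (fun i => mulQ n (actQ T (eN.getD i 0)) == mulQ (eN.getD i 0) n) &&
    mulQ n d == actQ Tt n && mulQ (mulQ n (actQ T n)) s == 0 &&
    mulQ (mulQ (mulQ (actQ Ta n) (actQ Tu (actQ Ta n))) (actQ Tu (actQ Tu (actQ Ta n)))) c == 0

theorem cand_ok : ∀ k < 9, ∀ n < 512,
    candOK (wordT (rowW.getD k [])) (wordT aV) (wordT tV) (wordT (aV ++ rowW.getD k []))
      (rowD.getD k 0) (rowS.getD k 0) (rowC.getD k 0) n = true →
    n ∈ (rowR.getD k []).map Prod.fst := by decide +kernel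

end CfsgLib.Sporadic.ThOut
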