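import Cfsg.Agent.Lib.Sporadic.ThOut.Defs

/-!
# Commutators of the involutions, checked on matrices
-/

set_option autoImplicit false
set_option maxRecDepth 100000
set_option Elab.async false

namespace CfsgLib.Sporadic.ThOut

theorem anti_0_1 :
    eqW (qgW.getD 1 [] ++ qgW.getD 0 []) (qgW.getD 0 [] ++ qgW.getD 1 [] ++ [0]) = true := by
  decide +kernel

theorem anti_0_2 :
    eqW (qgW.getD 2 [] ++ qgW.getD 0 []) (qgW.getD 0 [] ++ qgW.getD 2 [] ++ [0]) = true := by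
  decide +kernel

theorem anti_0_3 :
    eqW (qgW.getD 3 [] ++ qgW.getD 0 []) (qgW.getD 0 [] ++ qgW.getD 3 [] ++ [0]) = true := by
  decide +kernel

theorem anti_0_4 :
    eqW (qgW.getD 4 [] ++ qgW.getD 0 []) (qgW.getD 0 [] ++ qgW.getD 4 [] ++ [0]) = true := by
  decide +kernel

theorem anti_0_5 :
    eqW (qgW.getD 5 [] ++ qgW.getD 0 []) (qgW.getD 0 [] ++ qgW.getD 5 [] ++ [0]) = true := by
  decide +kernel

theorem anti_0_6 :
    eqW (qgW.getD 6 [] ++ qgW.getD 0 []) (qgW.getD 0 [] ++ qgW.getD 6 [] ++ [0]) = true := by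
  decide +kernel

theorem anti_0_7 :
    eqW (qgW.getD 7 [] ++ qgW.getD 0 []) (qgW.getD 0 [] ++ qgW.getD 7 [] ++ [0]) = true := by
  decide +kernel

theorem anti_1_2 :
    eqW (qgW.getD 2 [] ++ qgW.getD 1 []) (qgW.getD 1 [] ++ qgW.getD 2 [] ++ [0]) = true := by
  decide +kernel

theorem anti_1_3 :
    eqW (qgW.getD 3 [] ++ qgW.getD 1 []) (qgW.getD 1 [] ++ qgW.getD 3 [] ++ [0]) = true := by
  decide +kernel

theorem anti_1_4 :
    eqW (qgW.getD 4 [] ++ qgW.getD 1 []) (qgW.getD 1 [] ++ qgW.getD 4 [] ++ [0]) = true := by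
  decide +kernel

theorem anti_1_5 :
    eqW (qgW.getD 5 [] ++ qgW.getD 1 []) (qgW.getD 1 [] ++ qgW.getD 5 [] ++ [0]) = true := by
  decide +kernel

theorem anti_1_6 :
    eqW (qgW.getD 6 [] ++ qgW.getD 1 []) (qgW.getD 1 [] ++ qgW.getD 6 [] ++ [0]) = true := by
  decide +kernel

theorem anti_1_7 :
    eqW (qgW.getD 7 [] ++ qgW.getD 1 []) (qgW.getD 1 [] ++ qgW.getD 7 [] ++ [0]) = true := by
  decide +kernel

theorem anti_2_3 :
    eqW (qgW.getD 3 [] ++ qgW.getD 2 []) (qgW.getD 2 [] ++ qgW.getD 3 [] ++ [0]) = true := by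
  decide +kernel

theorem anti_2_4 :
    eqW (qgW.getD 4 [] ++ qgW.getD 2 []) (qgW.getD 2 [] ++ qgW.getD 4 [] ++ [0]) = true := by
  decide +kernel

theorem anti_2_5 :
    eqW (qgW.getD 5 [] ++ qgW.getD 2 []) (qgW.getD 2 [] ++ qgW.getD 5 [] ++ [0]) = true := by
  decide +kernel

theorem anti_2_6 :
    eqW (qgW.getD 6 [] ++ qgW.getD 2 []) (qgW.getD 2 [] ++ qgW.getD 6 [] ++ [0]) = true := by
  decide +kernel

theorem anti_2_7 :
    eqW (qgW.getD 7 [] ++ qgW.getD 2 []) (qgW.getD 2 [] ++ qgW.getD 7 [] ++ [0]) = true := by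
  decide +kernel

theorem anti_3_4 :
    eqW (qgW.getD 4 [] ++ qgW.getD 3 []) (qgW.getD 3 [] ++ qgW.getD 4 [] ++ [0]) = true := by
  decide +kernel

theorem anti_3_5 :
    eqW (qgW.getD 5 [] ++ qgW.getD 3 []) (qgW.getD 3 [] ++ qgW.getD 5 [] ++ [0]) = true := by
  decide +kernel

theorem anti_3_6 :
    eqW (qgW.getD 6 [] ++ qgW.getD 3 []) (qgW.getD 3 [] ++ qgW.getD 6 [] ++ [0]) = true := by
  decide +kernel

theorem anti_3_7 :
    eqW (qgW.getD 7 [] ++ qgW.getD 3 []) (qgW.getD 3 [] ++ qgW.getD 7 [] ++ [0]) = true := by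
  decide +kernel

theorem anti_4_5 :
    eqW (qgW.getD 5 [] ++ qgW.getD 4 []) (qgW.getD 4 [] ++ qgW.getD 5 [] ++ [0]) = true := by
  decide +kernel

theorem anti_4_6 :
    eqW (qgW.getD 6 [] ++ qgW.getD 4 []) (qgW.getD 4 [] ++ qgW.getD 6 [] ++ [0]) = true := by
  decide +kernel

theorem anti_4_7 :
    eqW (qgW.getD 7 [] ++ qgW.getD 4 []) (qgW.getD 4 [] ++ qgW.getD 7 [] ++ [0]) = true := by
  decide +kernel

theorem anti_5_6 :
    eqW (qgW.getD 6 [] ++ qgW.getD 5 []) (qgW.getD 5 [] ++ qgW.getD 6 [] ++ [0]) = true := by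
  decide +kernel

theorem anti_5_7 :
    eqW (qgW.getD 7 [] ++ qgW.getD 5 []) (qgW.getD 5 [] ++ qgW.getD 7 [] ++ [0]) = true := by
  decide +kernel

theorem anti_6_7 :
    eqW (qgW.getD 7 [] ++ qgW.getD 6 []) (qgW.getD 6 [] ++ qgW.getD 7 [] ++ [0]) = true := by
  decide +kernel

theorem anti_ok : ∀ i < 8, ∀ j < 8, i < j →
    eqW (qgW.getD j [] ++ qgW.getD i []) (qgW.getD i [] ++ qgW.getD j [] ++ [0]) = true := by
  intro i hi j hj hij
  interval_cases j <;> interval_cases i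
  exacts [anti_0_1, anti_0_2, anti_1_2, anti_0_3, anti_1_3, anti_2_3, anti_0_4, anti_1_4, anti_2_4, anti_3_4, anti_0_5, anti_1_5, anti_2_5, anti_3_5, anti_4_5, anti_0_6, anti_1_6, anti_2_6, anti_3_6, anti_4_6, anti_5_6, anti_0_7, anti_1_7, anti_2_7, anti_3_7, anti_4_7, anti_5_7, anti_6_7]

end CfsgLib.Sporadic.ThOut
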