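import Cfsg.Agent.Lib.Sporadic.ThOut.Defs

/-!
# Equations involving `b`, checked on matrices
-/

set_option autoImplicit false
set_option maxRecDepth 100000
set_option Elab.async false

namespace CfsgLib.Sporadic.ThOut

/-- Short words for the images of the three elements. -/
def eS : List (List ℕ) :=
  [[3, 2, 3, 8, 7, 3, 2, 3, 10, 5], [7, 3, 2, 3, 10, 5, 7, 3, 2, 3, 10, 8], [0, 3, 2, 3, 6, 8, 7, 3, 2, 3, 10, 5, 9]]

theorem eS_ok : ∀ k < 3, eqK (eS.getD k []) (qWord (eN.getD k 0)) = true := by decide +kernel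

theorem q182_ok : eqK (qWord 182) [4, 7, 3, 2, 3, 10, 4] = true := by decide +kernel

theorem centre_ok : eqW [0, 0] [] = true ∧ ∀ x ∈ [2, 3, 4, 5, 6, 7], eqW [x, 0] [0, x] = true := by decide +kernel

theorem b_basic : eqW [1, 1] [] = true ∧ eqW [0, 1, 0, 1, 0, 1] [] = true ∧ eqW [1, 3] [3, 1] = true ∧
    eqW [1, 4] [4, 1] = true ∧ eqW [1, 6] [6, 1] = true := by decide +kernel

theorem b_e_0 : eqW (1 :: eW.getD 0 []) (eW.getD 0 [] ++ [1]) = true := by decide +kernel

theorem b_e_1 : eqW (1 :: eW.getD 1 []) (eW.getD 1 [] ++ [1]) = true := by decide +kernel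

theorem b_e_2 : eqW (1 :: eW.getD 2 []) (eW.getD 2 [] ++ [1]) = true := by decide +kernel

theorem v_e_0 : eqW (vW ++ eW.getD 0 []) (eS.getD 0 [] ++ vW) = true := by decide +kernel

theorem v_e_1 : eqW (vW ++ eW.getD 1 []) (eS.getD 1 [] ++ vW) = true := by decide +kernel

theorem v_e_2 : eqW (vW ++ eW.getD 2 []) (eS.getD 2 [] ++ vW) = true := by decide +kernel

theorem v_d : eqW (vW ++ [3]) (0 :: vW) = true := by decide +kernel

theorem v_a : eqW (vW ++ [0]) (aV ++ vW) = true := by decide +kernel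

theorem v_t : eqW (vW ++ [6]) (tV ++ vW) = true := by decide +kernel

theorem cand_6_257 : eqW (qWord 257 ++ rowW.getD 6 [] ++ vW) (vW ++ tgtW.getD 1 []) = true := by decide +kernel

theorem cand_7_2 : eqW (qWord 2 ++ rowW.getD 7 [] ++ vW) (vW ++ tgtW.getD 0 []) = true := by decide +kernel

theorem cand_8_182 : eqW ([4, 7, 3, 2, 3, 10, 4] ++ rowW.getD 8 [] ++ vW) (vW ++ tgtW.getD 2 []) = true := by decide +kernel

end CfsgLib.Sporadic.ThOut
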