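import Cfsg.Agent.Lib.Sporadic.ThOut.Defs

/-!
# Equations inside the centraliser and inequalities, checked on the test vector
-/

set_option autoImplicit false
set_option maxRecDepth 100000
set_option Elab.async false

namespace CfsgLib.Sporadic.ThOut

theorem qg_self : ∀ i < 8, invW (qgW.getD i []) = qgW.getD i [] := by decide +kernel

theorem a_ne : diffV [0] [] = true ∧ diffV [1] [0] = true := by decide +kernel

theorem x_cube : ∀ j < 9, eqK (xW.getD j [] ++ xW.getD j [] ++ xW.getD j []) [] = true := by decide +kernel

theorem y_cube : ∀ j < 9, eqK (yW.getD j [] ++ yW.getD j [] ++ yW.getD j []) [] = true := by decide +kernel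

theorem x_comm : ∀ j < 9,
    eqK (xW.getD j [] ++ xW.getD (parX j) []) (xW.getD (parX j) [] ++ xW.getD j []) = true := by decide +kernel

theorem y_comm : ∀ j < 9,
    eqK (yW.getD j [] ++ yW.getD (parX j) []) (yW.getD (parX j) [] ++ yW.getD j []) = true := by decide +kernel

theorem kill_eq : eqK (xWord xW killL) (killE ++ xWord xW killR) = true := by decide +kernel

theorem kill_ne : diffV (xWord yW killL) (killE ++ xWord yW killR) = true := by decide +kernel

theorem span_ok : eqK (xWord xW spanL) (qWord spanN) = true := by decide +kernel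

theorem row_ok : ∀ k < 9, eqK (rowW.getD k [] ++ tV) (qWord (rowD.getD k 0) ++ tV ++ rowW.getD k []) = true ∧
    eqK (rowW.getD k [] ++ rowW.getD k []) (qWord (rowS.getD k 0)) = true ∧
    eqK (aV ++ rowW.getD k [] ++ (aV ++ rowW.getD k []) ++ (aV ++ rowW.getD k [])) (qWord (rowC.getD k 0)) = true := by
  decide +kernel

theorem cand_ne : ∀ k < 9, ∀ p ∈ rowR.getD k [], 3 ≤ p.2 →
    diffV (candW k p.1 ++ [4]) (4 :: candW k p.1) = true := by decide +kernel

end CfsgLib.Sporadic.ThOut
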