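import Cfsg.Agent.Lib.Sporadic.ThOut.IdsLet
import Cfsg.Agent.Lib.Sporadic.ThOut.IdsAnti
import Cfsg.Agent.Lib.Sporadic.ThOut.IdsB
import Cfsg.Agent.Lib.Sporadic.ThOut.IdsVec
import Cfsg.Agent.Lib.Sporadic.ThOut.Check
import Cfsg.Agent.Lib.Sporadic.ThCent.Structure

/-!
# The centraliser of the involution `a` of the presented Thompson group, for computing with automorphisms
-/

set_option autoImplicit false
set_option maxRecDepth 100000

namespace CfsgLib.Sporadic.ThOut

open CfsgLib.Sporadic.ONTriple CfsgLib.Sporadic.ThCent Cfsg.Spor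

theorem el_k11 {x : ℕ} (hx : x < 10) : el (k11 x) = ThCent.kTh x := by
  interval_cases x <;>
    simp [el, k11, pr, ThCent.kTh, ThCent.thCode, Schur.Sporadic.ThCover.thLetter,
      Schur.Sporadic.ThCover.freeLetter, Schur.Sporadic.ThCover.genAt, PresentedGroup.of]

/-- What is needed about the presented Thompson group. -/
structure Facts : Prop where
  inj : Function.Injective ThGL.rep
  card : Nat.card Th = 90745943887872000
  bound : Nat.card (Subgroup.centralizer ({el 0} : Set Th)) ≤ 92897280

/-- The eight involutions. -/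
noncomputable def gQ (i : ℕ) : Th := ev el (qgW.getD i [])

/-- The elements of the extraspecial group. -/
noncomputable def qE (n : ℕ) : Th := qv gQ (el 0) n

/-- The element of the presented centraliser of a word. -/
noncomputable def toK (w : List ℕ) : KP := ev kLetter (w.map k10)

theorem el_word1 (x : ℕ) : ev el [x] = el x := by rw [ev_cons, ev_nil, mul_one]

theorem eb_lt (b : Bool) : eb b < 512 := by cases b <;> decide

theorem mg_lt {n i : ℕ} (hn : n < 512) (hi : i < 8) : mg n i < 512 := by
  have h : ∀ a b, a < 512 → b < 512 → a ^^^ b < 512 := fun a b ha hb =>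
    Nat.xor_lt_two_pow (n := 9) ha hb
  exact h _ _ (h _ _ hn (lt_of_lt_of_le (Nat.pow_lt_pow_right (by norm_num) hi) (by norm_num))) (eb_lt _)

theorem mulQ_lt {n m : ℕ} (hn : n < 512) : mulQ n m < 512 := by
  have key : ∀ k ≤ 8, mulK n m k < 512 := by
    intro k
    induction k with
    | zero => intro _; exact hn
    | succ k ih =>
      intro hk
      rw [mulK]
      split
      · rw [frc_eq]; exact mg_lt (ih (by omega)) (by omega)
      · exact ih (by omega)
  exact Nat.xor_lt_two_pow (n := 9) (key 8 le_rfl) (eb_lt _)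

theorem invQ_lt {n : ℕ} (hn : n < 512) : invQ n < 512 := Nat.xor_lt_two_pow (n := 9) hn (eb_lt _)

theorem actQ_lt (T : List ℕ) (n : ℕ) : actQ T n < 512 := by
  have key : ∀ k, actK T n k < 512 := by
    intro k
    induction k with
    | zero => norm_num [actK]
    | succ k ih =>
      rw [actK]
      split
      · rw [frc_eq, frc_eq]; exact mulQ_lt ih
      · exact ih
  exact Nat.xor_lt_two_pow (n := 9) (key 8) (eb_lt _)

theorem actW_lt {w : List ℕ} {n : ℕ} (hn : n < 512) : actW w n < 512 := by
  cases w with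
  | nil => exact hn
  | cons a t => rw [actW, List.foldr_cons, frc_eq]; exact actQ_lt _ _

variable (F : Facts)
include F

theorem Facts.finite : Finite Th := Nat.finite_of_card_ne_zero (by rw [F.card]; norm_num)

theorem Facts.eqv {a b : List ℕ} (h : eqW a b = true) : ev el a = ev el b := eq_of_eqW F.inj h

theorem Facts.nev {a b : List ℕ} (h : neW a b = true) : ev el a ≠ ev el b := ne_of_neW F.inj h

theorem el_inv {x : ℕ} (hx : x < 11) : el (ThGL.invc x) = (el x)⁻¹ := el_invc hx F.inj

theorem el_central {x : ℕ} (hx : x < 11) (hx1 : x ≠ 1) : el x * el 0 = el 0 * el x := by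
  have base : ∀ y ∈ [2, 3, 4, 5, 6, 7], el y * el 0 = el 0 * el y := fun y hy => by
    simpa using F.eqv (centre_ok.2 y hy)
  have dual : ∀ y ∈ [5, 6, 7], el (ThGL.invc y) * el 0 = el 0 * el (ThGL.invc y) := fun y hy => by
    rw [el_inv F ((by decide : ∀ y ∈ [5, 6, 7], y < 11) y hy)]
    exact (Commute.inv_left (show Commute (el y) (el 0) from
      base y ((by decide : ∀ y ∈ [5, 6, 7], y ∈ [2, 3, 4, 5, 6, 7]) y hy))).eq
  interval_cases x
  exacts [rfl, absurd rfl hx1, base 2 (by simp), base 3 (by simp), base 4 (by simp), base 5 (by simp),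
    base 6 (by simp), base 7 (by simp), dual 5 (by simp), dual 6 (by simp), dual 7 (by simp)]

omit F in
theorem kW_lt {w : List ℕ} (h : kW w = true) : ∀ x ∈ w, x < 11 ∧ x ≠ 1 := fun x hx => by
  have := List.all_eq_true.1 h x hx
  simp only [Bool.and_eq_true, Bool.not_eq_true'] at this
  exact ⟨Nat.blt_eq.mp this.1, ne_of_beq this.2⟩

theorem word_central {w : List ℕ} (h : kW w = true) : ev el w * el 0 = el 0 * ev el w := by
  have hw := kW_lt h
  clear h
  induction w with
  | nil => simp
  | cons a w ih =>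
    have h1 := hw a List.mem_cons_self
    rw [ev_cons, mul_assoc, ih fun x hx => hw x (List.mem_cons_of_mem _ hx), ← mul_assoc,
      el_central F h1.1 h1.2, mul_assoc]

theorem anti : Anti gQ (el 0) := by
  have hq := words_ok.1
  have zz : el 0 * el 0 = 1 := by simpa using F.eqv centre_ok.1
  have gg : ∀ i < 8, gQ i * gQ i = 1 := fun i hi => by
    have e := ev_invW F.inj (w := qgW.getD i []) fun x hx => (kW_lt (hq i hi) x hx).1
    rw [qg_self i hi] at e
    exact (congrArg (· * gQ i) e).trans (inv_mul_cancel _)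
  have zg : ∀ i < 8, el 0 * gQ i = gQ i * el 0 := fun i hi => (word_central F (hq i hi)).symm
  refine ⟨zz, zg, gg, ?_, fun h => ne_of_diffV a_ne.1 (by simpa using h)⟩
  have up : ∀ i < 8, ∀ j < 8, i < j → gQ j * gQ i = gQ i * gQ j * el 0 := fun i hi j hj hij => by
    have := F.eqv (anti_ok i hi j hj hij)
    simpa [ev_append, gQ, mul_assoc] using this
  intro i hi j hj hne'
  rcases lt_or_gt_of_ne hne' with h | h
  · exact up i hi j hj h
  · rw [up j hj i hi h, mul_assoc (gQ j * gQ i), zz, mul_one]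

theorem qE_word (n : ℕ) : ev el (qWord n) = qE n := by
  have key : ∀ k, ev el (((List.range k).map fun i => if n.testBit i then qgW.getD i [] else []).flatten) =
      qp gQ n k := by
    intro k
    induction k with
    | zero => simp [qp]
    | succ k ih =>
      rw [List.range_succ, List.map_append, List.flatten_append, ev_append, ih, qp, List.map_singleton,
        List.flatten_singleton]
      congr 1
      split <;> simp [gQ]
  rw [qWord, ev_append, key, qE, qv]
  congr 1
  cases n.testBit 8 <;> simp [zb]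

theorem let_conj {x : ℕ} (hx : x < 11) (hx1 : x ≠ 1) {i : ℕ} (hi : i < 8) :
    el x * gQ i = qE ((letT.getD x []).getD i 0) * el x := by
  have base : ∀ y ∈ [2, 3, 4, 5, 6, 7], ∀ j < 8, el y * gQ j = qE ((letT.getD y []).getD j 0) * el y := by
    intro y hy j hj
    have e := F.eqv (let_ok y hy j hj)
    rwa [ev_cons, ev_append, qE_word F, el_word1] at e
  have dual : ∀ y ∈ [5, 6, 7], ∀ j < 8,
      el (ThGL.invc y) * gQ j = qE ((letT.getD (ThGL.invc y) []).getD j 0) * el (ThGL.invc y) := by
    intro y hy j hj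
    have hy' : y ∈ [2, 3, 4, 5, 6, 7] := (by decide : ∀ y ∈ [5, 6, 7], y ∈ [2, 3, 4, 5, 6, 7]) y hy
    have hlt : y < 11 ∧ y ≠ 1 := (by decide : ∀ y ∈ [5, 6, 7], y < 11 ∧ y ≠ 1) y hy
    have e : el y * qE ((letT.getD (ThGL.invc y) []).getD j 0) =
        qE (actQ (letT.getD y []) ((letT.getD (ThGL.invc y) []).getD j 0)) * el y :=
      qv_act (anti F) (el_central F hlt.1 hlt.2) (fun k hk => base y hy' k hk) _
    rw [(by decide +kernel : ∀ y ∈ [5, 6, 7], ∀ j < 8,
        actQ (letT.getD y []) ((letT.getD (ThGL.invc y) []).getD j 0) = 2 ^ j) y hy j hj,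
      show qE (2 ^ j) = gQ j from qv_two_pow (anti F) hj] at e
    rw [el_inv F hlt.1]
    calc (el y)⁻¹ * gQ j = (el y)⁻¹ * (gQ j * el y) * (el y)⁻¹ := by group
      _ = _ := by rw [← e, inv_mul_cancel_left]
  interval_cases x
  · rw [(by decide +kernel : ∀ i < 8, (letT.getD 0 []).getD i 0 = 2 ^ i) i hi,
      show qE (2 ^ i) = gQ i from qv_two_pow (anti F) hi, (anti F).zg i hi]
  · exact absurd rfl hx1
  · exact base 2 (by simp) i hi
  · exact base 3 (by simp) i hi
  · exact base 4 (by simp) i hi
  · exact base 5 (by simp) i hi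
  · exact base 6 (by simp) i hi
  · exact base 7 (by simp) i hi
  · exact dual 5 (by simp) i hi
  · exact dual 6 (by simp) i hi
  · exact dual 7 (by simp) i hi

theorem act_word {w : List ℕ} (h : kW w = true) (n : ℕ) :
    ev el w * qE n = qE (actW w n) * ev el w := by
  have hw := kW_lt h
  clear h
  induction w generalizing n with
  | nil => simp [actW]
  | cons a w ih =>
    have h1 := hw a List.mem_cons_self
    have e : el a * qE (actW w n) = qE (actQ (letT.getD a []) (actW w n)) * el a :=
      qv_act (anti F) (el_central F h1.1 h1.2) (fun i hi => let_conj F h1.1 h1.2 hi) _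
    rw [ev_cons, mul_assoc, ih n (fun x hx => hw x (List.mem_cons_of_mem _ hx)), ← mul_assoc, e, mul_assoc,
      show actW (a :: w) n = actQ (letT.getD a []) (actW w n) from frc_eq _ _]

theorem act_table {w : List ℕ} (h : kW w = true) (n : ℕ) :
    ev el w * qE n = qE (actQ (wordT w) n) * ev el w :=
  qv_act (anti F) (word_central F h) (fun i hi => by
    have e := act_word F h (2 ^ i)
    rw [show qE (2 ^ i) = gQ i from qv_two_pow (anti F) hi] at e
    rw [e, wordT, List.getD_eq_getElem _ _ (by simpa using hi)]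
    simp [qE]) n

theorem qE_mul (n m : ℕ) : qE n * qE m = qE (mulQ n m) := qv_mul (anti F) n m

theorem qE_inj {n m : ℕ} (hn : n < 512) (hm : m < 512) (h : qE n = qE m) : n = m := qv_inj (anti F) hn hm h

omit F

theorem k10_ok : ∀ x < 11, x ≠ 1 → k10 x < 10 ∧ k11 (k10 x) = x := by decide

theorem piTh_toK {w : List ℕ} (h : kW w = true) : piTh (toK w) = ev el w := by
  have hw := kW_lt h
  rw [toK, piTh_word fun x hx => by
    obtain ⟨y, hy, rfl⟩ := List.mem_map.1 hx
    exact (k10_ok y (hw y hy).1 (hw y hy).2).1, ev_map]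
  refine ev_congr fun x hx => ?_
  obtain ⟨h1, h2⟩ := k10_ok x (hw x hx).1 (hw x hx).2
  rw [← el_k11 h1, h2]

theorem psi_toK {w : List ℕ} (h : kW w = true) (p : Fin 9) : psi (toK w) p = pAt w p := by
  have hw := kW_lt h
  clear h
  induction w with
  | nil => simp [toK, pAt]
  | cons a w ih =>
    have h1 := hw a List.mem_cons_self
    rw [toK, List.map_cons, ev_cons, map_mul, Equiv.Perm.mul_apply, psi_letter (k10_ok a h1.1 h1.2).1]
    show permImg (k10 a) (psi (toK w) p) = _
    rw [ih fun x hx => hw x (List.mem_cons_of_mem _ hx)]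
    rfl

theorem qWord_ok : ∀ n < 512, kW (qWord n) = true ∧ ∀ p : Fin 9, pAt (qWord n) p = p := by decide +kernel

theorem psi_qWord {n : ℕ} (hn : n < 512) : toK (qWord n) ∈ psi.ker := by
  rw [MonoidHom.mem_ker]
  exact Equiv.ext fun p => by rw [psi_toK (qWord_ok n hn).1, (qWord_ok n hn).2 p]; rfl

/-- The elements of the kernel. -/
noncomputable def kerF (n : Fin 512) : psi.ker := ⟨toK (qWord n), psi_qWord n.2⟩

include F

theorem piTh_kerF (n : Fin 512) : piTh (kerF n) = qE n := by
  show piTh (toK (qWord n)) = _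
  rw [piTh_toK (qWord_ok n n.2).1, qE_word F]

theorem kerF_bij : Function.Bijective kerF := by
  refine Function.Injective.bijective_of_nat_card_le (fun n m h => ?_) (by
    rw [Nat.card_fin]; exact card_ker_le)
  exact Fin.ext (qE_inj F n.2 m.2 (by rw [← piTh_kerF F, ← piTh_kerF F, h]))

theorem ker_exists {k : KP} (hk : psi k = 1) : ∃ n < 512, piTh k = qE n ∧ k = toK (qWord n) := by
  obtain ⟨n, hn⟩ := (kerF_bij F).2 ⟨k, hk⟩
  refine ⟨n, n.2, ?_, (congrArg Subtype.val hn).symm⟩
  rw [← piTh_kerF F, hn]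

theorem s_not_ker : ∀ n < 512, el 5 ≠ qE n := by
  intro n hn h
  have e := let_conj F (x := 5) (by norm_num) (by norm_num) (i := 2) (by norm_num)
  rw [show (letT.getD 5 []).getD 2 0 = 16 from rfl, h, ← qv_two_pow (anti F) (show 2 < 8 by norm_num)] at e
  rw [← qE, qE_mul F, qE_mul F] at e
  have lt : mulQ n (2 ^ 2) < 512 ∧ mulQ 16 n < 512 := ⟨mulQ_lt hn, mulQ_lt (by norm_num)⟩
  have := congrArg (Nat.testBit · 2) (qE_inj F lt.1 lt.2 e)
  simp only [mulQ_testBit _ _ (show 2 < 8 by norm_num)] at this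
  cases hb : n.testBit 2 <;> rw [hb] at this <;> exact absurd this (by decide)

theorem piTh_inj : Function.Injective piTh := by
  rw [injective_iff_map_eq_one]
  intro x hx
  have hker : piTh.ker ≤ psi.ker := by
    have : IsSimpleGroup (alternatingGroup (Fin 9)) := alternatingGroup.isSimpleGroup (by simp)
    have hn : (piTh.ker.map psiA).Normal := Subgroup.Normal.map inferInstance _ psiA_surjective
    rcases hn.eq_bot_or_eq_top with h | h
    · intro y hy
      rw [← psiA_ker, MonoidHom.mem_ker]
      exact Subgroup.mem_bot.1 (h ▸ Subgroup.mem_map_of_mem psiA hy)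
    · exfalso
      obtain ⟨y, hy, hys⟩ : psiA (kLetter 4) ∈ piTh.ker.map psiA := h ▸ Subgroup.mem_top _
      have hk : psi (y⁻¹ * kLetter 4) = 1 := by
        rw [← MonoidHom.mem_ker, ← psiA_ker, MonoidHom.mem_ker, map_mul, map_inv, hys, inv_mul_cancel]
      obtain ⟨n, hn, he, -⟩ := ker_exists F hk
      refine s_not_ker F n hn ?_
      rw [← he, map_mul, map_inv, MonoidHom.mem_ker.1 hy, inv_one, one_mul, piTh_letter (by norm_num),
        ← el_k11 (by norm_num)]
      rfl
  obtain ⟨n, hn, he, rfl⟩ := ker_exists F (hker (show x ∈ piTh.ker from hx))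
  have h0 : n = 0 := qE_inj F hn (by norm_num) (by rw [← he, hx, qE, qv_zero])
  subst h0
  rfl

theorem piTh_mem (k : KP) : piTh k ∈ Subgroup.centralizer ({el 0} : Set Th) := by
  have h0 : piTh (kLetter 0) = el 0 := by rw [piTh_letter (by norm_num), ← el_k11 (by norm_num)]; rfl
  rw [Subgroup.mem_centralizer_singleton_iff, ← h0, ← map_mul, ← map_mul, kLetter_zero_central]

theorem range_eq : piTh.range = Subgroup.centralizer ({el 0} : Set Th) := by
  have := F.finite
  refine Subgroup.eq_of_le_of_card_ge (by rintro - ⟨k, rfl⟩; exact piTh_mem F k) ?_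
  refine F.bound.trans (le_of_eq ?_)
  rw [← Nat.card_congr (MonoidHom.ofInjective (piTh_inj F)).toEquiv, ← Subgroup.card_mul_index psi.ker,
    Subgroup.index_ker, card_psi_range, ← Nat.card_eq_of_bijective _ (kerF_bij F), Nat.card_fin]

omit F

/-- The centraliser of `a`. -/
abbrev CA : Subgroup Th := Subgroup.centralizer ({el 0} : Set Th)

/-- The presented centraliser is the centraliser. -/
noncomputable def eC (F : Facts) : KP ≃* CA :=
  (MonoidHom.ofInjective (piTh_inj F)).trans (MulEquiv.subgroupCongr (range_eq F))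

/-- The action on nine points. -/
noncomputable def psiT (F : Facts) : CA →* Equiv.Perm (Fin 9) := psi.comp (eC F).symm.toMonoidHom

include F

theorem eC_val (k : KP) : (eC F k : Th) = piTh k := rfl

theorem word_mem {w : List ℕ} (h : kW w = true) : ev el w ∈ CA := by
  rw [← piTh_toK h]; exact piTh_mem F _

theorem psiT_word {w : List ℕ} (h : kW w = true) (p : Fin 9) :
    psiT F ⟨ev el w, word_mem F h⟩ p = pAt w p := by
  have e : (eC F).symm ⟨ev el w, word_mem F h⟩ = toK w := by
    rw [MulEquiv.symm_apply_eq]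
    exact Subtype.ext (by rw [eC_val, piTh_toK h])
  show psi ((eC F).symm _) p = _
  rw [e, psi_toK h]

theorem qE_mem {n : ℕ} (hn : n < 512) : qE n ∈ CA := by
  rw [← qE_word F]; exact word_mem F (qWord_ok n hn).1

theorem psiT_qE {n : ℕ} (hn : n < 512) : psiT F ⟨qE n, qE_mem F hn⟩ = 1 := Equiv.ext fun p => by
  have h := psiT_word F (qWord_ok n hn).1 p
  simp only [qE_word F] at h
  rw [h, (qWord_ok n hn).2]; rfl

theorem psiT_ker {z : CA} (hz : psiT F z = 1) : ∃ n < 512, (z : Th) = qE n := by
  obtain ⟨n, hn, he, -⟩ := ker_exists F (k := (eC F).symm z) hz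
  exact ⟨n, hn, by rw [← he, ← eC_val F, MulEquiv.apply_symm_apply]⟩

theorem psiT_range : (psiT F).range = alternatingGroup (Fin 9) := by
  rw [← psi_range]
  refine le_antisymm (by rintro - ⟨z, rfl⟩; exact ⟨_, rfl⟩) ?_
  rintro - ⟨k, rfl⟩
  exact ⟨eC F k, congrArg psi ((eC F).symm_apply_apply k)⟩

theorem qE_card {n : ℕ} (hn : n < 512) (h : qE n * qE n * qE n = 1) : n = 0 := by
  rw [qE_mul F, qE_mul F] at h
  have hc : mulQ (mulQ n n) n < 512 ∧ (mulQ (mulQ n n) n = 0 → n = 0) :=
    (by decide +kernel : ∀ n < 512, mulQ (mulQ n n) n < 512 ∧ (mulQ (mulQ n n) n = 0 → n = 0)) n hn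
  exact hc.2 (qE_inj F hc.1 (by norm_num) (by rw [h, qE, qv_zero]))

omit F



include F

theorem central_elt (z : CA) (h : ∀ i < 8, Commute (z : Th) (gQ i)) : (z : Th) = 1 ∨ (z : Th) = el 0 := by
  let N : Subgroup CA :=
    (Subgroup.centralizer {x | ∃ i < 8, x = gQ i}).subgroupOf CA
  have hNn : N.Normal := by
    refine ⟨fun n hn y => ?_⟩
    have key : ∀ m < 512, Commute (n : Th) (qE m) := by
      intro m hm
      have hmem : ∀ k, qp gQ m k ∈ Subgroup.centralizer ({(n : Th)} : Set Th) ∨ 8 < k := by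
        intro k
        induction k with
        | zero => exact Or.inl (one_mem _)
        | succ k ih =>
          rcases lt_or_ge 8 (k + 1) with hk | hk
          · exact Or.inr hk
          refine Or.inl (mul_mem (ih.resolve_right (by omega)) ?_)
          split
          · exact Subgroup.mem_centralizer_singleton_iff.2
              (Subgroup.mem_centralizer_iff.1 hn _ ⟨k, by omega, rfl⟩)
          · exact one_mem _
      have h1 : Commute (n : Th) (qp gQ m 8) :=
        (Subgroup.mem_centralizer_singleton_iff.1 ((hmem 8).resolve_right (by omega))).symm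
      refine h1.mul_right ?_
      cases m.testBit 8
      · exact Commute.one_right _
      · exact Subgroup.mem_centralizer_singleton_iff.1 n.2
    refine Subgroup.mem_centralizer_iff.2 ?_
    rintro _ ⟨i, hi, rfl⟩
    have hg : gQ i ∈ CA := word_mem F (words_ok.1 i hi)
    have hgk : psiT F ⟨gQ i, hg⟩ = 1 := Equiv.ext fun p => by
      show psiT F ⟨ev el (qgW.getD i []), _⟩ p = _
      rw [psiT_word F (words_ok.1 i hi), qg_perm i hi]; rfl
    obtain ⟨m, hm, he⟩ := psiT_ker F (z := y⁻¹ * ⟨gQ i, hg⟩ * y) (by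
      rw [map_mul, map_mul, hgk, mul_one, map_inv, inv_mul_cancel])
    have he' : gQ i = (y : Th) * qE m * (y : Th)⁻¹ := by
      rw [← he]
      show gQ i = (y : Th) * ((y : Th)⁻¹ * gQ i * (y : Th)) * (y : Th)⁻¹
      group
    show gQ i * ((y : Th) * n * (y : Th)⁻¹) = (y : Th) * n * (y : Th)⁻¹ * gQ i
    rw [he']
    calc (y : Th) * qE m * (y : Th)⁻¹ * ((y : Th) * n * (y : Th)⁻¹)
        = (y : Th) * (qE m * n) * (y : Th)⁻¹ := by group
      _ = (y : Th) * (n * qE m) * (y : Th)⁻¹ := by rw [(key m hm).eq]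
      _ = _ := by group
  have hzN : z ∈ N := Subgroup.mem_centralizer_iff.2 (by rintro _ ⟨i, hi, rfl⟩; exact (h i hi).eq.symm)
  have hsim : IsSimpleGroup (alternatingGroup (Fin 9)) := alternatingGroup.isSimpleGroup (by simp)
  let p : CA →* alternatingGroup (Fin 9) :=
    (psiT F).codRestrict _ fun x => by rw [← psiT_range F]; exact ⟨x, rfl⟩
  have hp : Function.Surjective p := fun a => by
    obtain ⟨x, hx⟩ : a.1 ∈ (psiT F).range := by rw [psiT_range F]; exact a.2
    exact ⟨x, Subtype.ext hx⟩
  rcases (Subgroup.Normal.map hNn p hp).eq_bot_or_eq_top with hb | ht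
  · have hz' : p z ∈ N.map p := Subgroup.mem_map_of_mem p hzN
    rw [hb, Subgroup.mem_bot] at hz'
    have hz : psiT F z = 1 := congrArg Subtype.val hz'
    obtain ⟨m, hm, he⟩ := psiT_ker F hz
    have hm0 : m % 256 = 0 := by
      by_contra hne
      obtain ⟨i, hi, hc⟩ := (by decide +kernel : ∀ m < 512, m % 256 ≠ 0 →
        ∃ i < 8, mulQ m (2 ^ i) ≠ mulQ (2 ^ i) m) m hm hne
      have e := (h i hi).eq
      rw [he, show gQ i = qE (2 ^ i) from (qv_two_pow (anti F) hi).symm, qE_mul F, qE_mul F] at e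
      exact hc (qE_inj F (mulQ_lt hm) (mulQ_lt (lt_of_lt_of_le (Nat.pow_lt_pow_right (by norm_num) hi)
        (by norm_num))) e)
    rcases (by decide : ∀ m < 512, m % 256 = 0 → m = 0 ∨ m = 256) m hm hm0 with rfl | rfl
    · exact Or.inl (he.trans qv_zero)
    · exact Or.inr (he.trans qv_256)
  · exfalso
    obtain ⟨y, hy, hys⟩ : p ⟨ev el [5], word_mem F (by decide)⟩ ∈ N.map p := by
      rw [ht]; exact Subgroup.mem_top _
    obtain ⟨m, hm, he⟩ := psiT_ker F (z := ⟨ev el [5], word_mem F (by decide)⟩ * y⁻¹) (by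
      have := congrArg Subtype.val hys
      rw [map_mul, map_inv, show psiT F y = psiT F ⟨ev el [5], word_mem F (by decide)⟩ from this,
        mul_inv_cancel])
    replace he : el 5 = qE m * (y : Th) := by
      rw [← he]; simp
    have e := let_conj F (x := 5) (by norm_num) (by norm_num) (i := 2) (by norm_num)
    rw [show (letT.getD 5 []).getD 2 0 = 16 from rfl, he, mul_assoc,
      ← show gQ 2 * (y : Th) = (y : Th) * gQ 2 from Subgroup.mem_centralizer_iff.1 hy _ ⟨2, by norm_num, rfl⟩,
      ← mul_assoc, ← mul_assoc,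
      mul_left_inj, show gQ 2 = qE (2 ^ 2) from (qv_two_pow (anti F) (by norm_num)).symm, qE_mul F, qE_mul F] at e
    have hb := congrArg (Nat.testBit · 2) (qE_inj F (mulQ_lt hm) (mulQ_lt (by norm_num)) e)
    simp only [mulQ_testBit _ _ (show 2 < 8 by norm_num)] at hb
    cases hb2 : m.testBit 2 <;> rw [hb2] at hb <;> exact absurd hb (by decide)

theorem eqK_ev {a b : List ℕ} (h : eqK a b = true) : ev el a = ev el b := by
  simp only [eqK, Bool.and_eq_true, List.all_eq_true, List.mem_range, beq_iff_eq] at h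
  obtain ⟨⟨⟨ha, hb⟩, ht⟩, hv⟩ := h
  refine eq_of_sameV hv a_ne.1 ?_
  have hz : (ev el b)⁻¹ * ev el a ∈ CA := mul_mem (inv_mem (word_mem F hb)) (word_mem F ha)
  have key := central_elt F ⟨_, hz⟩ fun i hi => by
    have e1 := act_word F ha (2 ^ i)
    have e2 := act_word F hb (2 ^ i)
    rw [show qE (2 ^ i) = gQ i from qv_two_pow (anti F) hi] at e1 e2
    rw [← ht i hi] at e2
    show (ev el b)⁻¹ * ev el a * gQ i = gQ i * ((ev el b)⁻¹ * ev el a)
    have e3 : (ev el b)⁻¹ * qE (actW a (2 ^ i)) = gQ i * (ev el b)⁻¹ := by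
      rw [eq_mul_inv_iff_mul_eq, mul_assoc, ← e2, inv_mul_cancel_left]
    rw [mul_assoc, e1, ← mul_assoc, e3, mul_assoc]
  rcases key with e | e
  · exact Or.inl (inv_mul_eq_one.1 e).symm
  · right
    have e' : ev el a = ev el b * el 0 := by rw [← e]; simp
    rw [e', word_central F hb]

omit F

end CfsgLib.Sporadic.ThOut
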