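/-!
# Words and tables for the automorphisms of the presented Thompson group

The letters are numbered `a, b, c, d, e, s, t, u, s⁻¹, t⁻¹, u⁻¹`.
-/

set_option autoImplicit false

namespace CfsgLib.Sporadic.ThOut

/-- The eight involutions. -/
def qgW : List (List Nat) := [
    [2],
    [3,2,3],
    [4,3,2,3,4],
    [8,4,3,2,3,4,5],
    [5,4,3,2,3,4,8],
    [4,8,4,3,2,3,4,5,4],
    [8,8,4,3,2,3,4,5,5],
    [5,5,4,3,2,3,4,8,8]]

/-- The conjugates of the eight involutions by each letter. -/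
def letT : List (List Nat) := [
    [1,2,4,8,16,32,64,128],
    [0,0,0,0,0,0,0,0],
    [1,258,260,264,272,288,320,384],
    [2,1,4,16,8,255,128,64],
    [1,4,2,32,64,8,16,255],
    [1,2,16,4,128,64,8,255],
    [1,2,4,255,32,128,8,16],
    [1,177,182,421,444,500,149,75],
    [1,2,8,64,4,255,32,16],
    [1,2,4,64,128,16,255,32],
    [1,433,438,165,188,244,405,331]]

/-- Lifts of nine cycles of length three. -/
def xW : List (List Nat) := [
    [3,2,3,8,4,3,2,3,4,7,4,3,10,4,8,3,8,4,3,2,3,4,5,3,2,3],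
    [5,7,8,4,3,2,3,4,5,10,8,8,8,3,4,3,7,3,10,5,5,5,7,8,4,3,2,3,4,5,10,8],
    [2,4,3,2,3,4,8,7,3,2,3,10,5,6,5,3,4,3,7,3,10,8,9,8,7,3,2,3,10,5,4,3,2,3,4,2],
    [2,3,2,3,4,5,4,7,3,2,3,10,4,8,4,6,8,3,4,3,7,3,10,5,9,4,5,4,7,3,2,3,10,4,8,4,3,2,3,2],
    [3,5,7,8,4,3,2,3,4,5,10,8,3,5,5,3,4,3,7,3,10,8,8,3,5,7,8,4,3,2,3,4,5,10,8,3],
    [2,5,4,3,2,3,4,3,4,3,7,3,10,4,3,2,3,4,8,2],
    [3,4,3,7,3,10],
    [4,8,4,3,2,3,4,5,4,6,3,8,7,8,6,2,3,7,5,4,8,4,3,2,3,4,5,4],
    [6,8,4,7,3,2,3,10,4,5,9,2,5,3,7,9,8,3,10,4,7,3,2,3,10,4,5,9]]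

/-- Lifts of their images under a transposition. -/
def yW : List (List Nat) := [
    [5,7,8,4,3,2,3,4,5,10,8,8,8,3,4,3,7,3,10,5,5,5,7,8,4,3,2,3,4,5,10,8],
    [3,2,3,8,4,3,2,3,4,7,4,3,10,4,8,3,8,4,3,2,3,4,5,3,2,3],
    [2,4,3,2,3,4,8,7,3,2,3,10,5,6,5,3,4,3,7,3,10,8,9,8,7,3,2,3,10,5,4,3,2,3,4,2],
    [2,3,2,3,4,5,4,7,3,2,3,10,4,8,4,6,8,3,4,3,7,3,10,5,9,4,5,4,7,3,2,3,10,4,8,4,3,2,3,2],
    [3,5,7,8,4,3,2,3,4,5,10,8,3,5,5,3,4,3,7,3,10,8,8,3,5,7,8,4,3,2,3,4,5,10,8,3],
    [2,5,4,3,2,3,4,3,4,3,7,3,10,4,3,2,3,4,8,2],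
    [3,4,3,7,3,10],
    [4,8,4,3,2,3,4,5,4,8,10,3,2,9,5,10,5,3,9,4,8,4,3,2,3,4,5,4],
    [6,8,4,7,3,2,3,10,4,5,9,2,5,3,7,9,8,3,10,4,7,3,2,3,10,4,5,9]]

/-- Preimages under the commutator with the seventh lift. -/
def normT : List Nat := [0,179,182,5,181,6,3,176,79,252,249,74,250,73,76,255,135,52,49,130,50,129,132,55,200,123,126,205,125,206,203,120,23,164,161,18,162,17,20,167,88,235,238,93,237,94,91,232,144,35,38,149,37,150,147,32,223,108,105,218,106,217,220,111,184,11,14,189,13,190,187,8,247,68,65,242,66,241,244,71,63,140,137,58,138,57,60,143,112,195,198,117,197,118,115,192,175,28,25,170,26,169,172,31,224,83,86,229,85,230,227,80,40,155,158,45,157,46,43,152,103,212,209,98,210,97,100,215,39,148,145,34,146,33,36,151,104,219,222,109,221,110,107,216,160,19,22,165,21,166,163,16,239,92,89,234,90,233,236,95,48,131,134,53,133,54,51,128,127,204,201,122,202,121,124,207,183,4,1,178,2,177,180,7,248,75,78,253,77,254,251,72,159,44,41,154,42,153,156,47,208,99,102,213,101,214,211,96,24,171,174,29,173,30,27,168,87,228,225,82,226,81,84,231,136,59,62,141,61,142,139,56,199,116,113,194,114,193,196,119,15,188,185,10,186,9,12,191,64,243,246,69,245,70,67,240]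

/-- Two words in the lifts, equal, with different images. -/
def killL : List (Nat × Bool) := [(0, true), (4, true), (0, true), (6, false), (4, false), (6, false)]

/-- The second word. -/
def killR : List (Nat × Bool) := [(1, true), (5, true), (1, true), (6, false), (5, false), (6, false)]

/-- Whether the central involution enters the equation. -/
def killE : List Nat := []

/-- A word in the lifts for an element of the normal subgroup. -/
def spanL : List (Nat × Bool) := [(0, true), (5, true), (0, true), (5, false), (5, false)]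

/-- Its number. -/
def spanN : Nat := 283

/-- Words moving it to the eight involutions. -/
def spanP : List (List Nat) := [
    [3,7,5,9,4],
    [7,5,9,4],
    [7,4,5,9,4],
    [7,8,8,7],
    [7,8,8,8],
    [7,5,9],
    [7,8,6,7],
    [7,5,5,6]]

/-- The element conjugating the centraliser of `d` to the centraliser of `a`. -/
def vW : List Nat := [1,7,1,3,2,1,10,1,7,3,2]

/-- The image of `a`. -/
def aV : List Nat := [4,7,3,4,7,2]

/-- The image of `t`. -/
def tV : List Nat := [9]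

/-- Elements of the centraliser commuting with `b` and `d`. -/
def eW : List (List Nat) := [
    [4,3,5,4,3,5,4],
    [4,5,3,4,5,3,4],
    [5,4,5,3,4,3,5]]

/-- Their images. -/
def eN : List Nat := [488,143,359]

/-- The possible permutations of the image of `b`. -/
def survP : List (List Nat) := [[0,2,1,5,8,3,7,6,4],
    [0,2,1,7,5,4,8,3,6],
    [0,2,1,8,7,6,5,4,3],
    [1,0,2,5,8,3,7,6,4],
    [1,0,2,7,5,4,8,3,6],
    [1,0,2,8,7,6,5,4,3],
    [2,1,0,5,8,3,7,6,4],
    [2,1,0,7,5,4,8,3,6],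
    [2,1,0,8,7,6,5,4,3]]

/-- Their lifts. -/
def rowW : List (List Nat) := [
    [4],
    [3,7,3,4,7],
    [4,3,7,3,7],
    [3,7,3,7,3],
    [7,3,7],
    [3],
    [3,4,7,3,7],
    [3,4,3],
    [4,7,3,4,7]]

/-- The defects of the commutation with the image of `t`. -/
def rowD : List Nat := [0,0,0,0,0,0,0,0,0]

/-- The squares of the lifts. -/
def rowS : List Nat := [0,436,181,439,432,0,179,0,439]

/-- The cubes of the products with the image of `a`. -/
def rowC : List Nat := [256,263,0,7,262,256,256,256,1]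

/-- The candidates over each lift: number and kind (`b`, `aba`, `a`, none). -/
def rowR : List (List (Nat × Nat)) := [[],
    [],
    [],
    [],
    [],
    [],
    [(177, 3), (178, 3), (257, 1), (258, 3)],
    [(2, 0), (7, 3), (256, 3), (261, 3)],
    [(182, 2)]]

end CfsgLib.Sporadic.ThOut
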