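import Cfsg.Agent.Lib.Sporadic.ThOut.Vec
import Cfsg.Agent.Lib.Sporadic.ONTriple.Apply

/-!
# Deciding equations between words of the presented Thompson group in degree 248

The letters are numbered `a, b, c, d, e, s, t, u, s⁻¹, t⁻¹, u⁻¹`.
-/

set_option autoImplicit false

namespace CfsgLib.Sporadic.ThOut

open CfsgLib.Sporadic.ONTriple CfsgLib.Sporadic.ThGL Cfsg.Spor

/-- The signed generator of a letter. -/
def pr : ℕ → Th.Gen × Bool
  | 0 => (.a, true) | 1 => (.b, true) | 2 => (.c, true) | 3 => (.d, true) | 4 => (.e, true)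
  | 5 => (.s, true) | 6 => (.t, true) | 7 => (.u, true)
  | 8 => (.s, false) | 9 => (.t, false) | _ => (.u, false)

theorem code_pr : ∀ x < 11, code (pr x) = x := by decide

/-- The element of a letter. -/
noncomputable def el (x : ℕ) : Th :=
  if (pr x).2 then PresentedGroup.of (pr x).1 else (PresentedGroup.of (pr x).1)⁻¹

theorem rep_el {x : ℕ} (hx : x < 11) : (rep (el x)).val = dec 248 (lett x) := by
  have h : rep (el x) = letGL (pr x) := by
    rw [← lift_eq, el]
    cases (pr x).2 <;> simp [rep_of]
  rw [h]
  show dec 248 (lett (code (pr x))) = _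
  rw [code_pr x hx]

/-- The inverse word. -/
def invW (w : List ℕ) : List ℕ := (w.map invc).reverse

/-- The letters are in range. -/
def okW (w : List ℕ) : Bool := w.all fun x => Nat.blt x 11

theorem okW_lt {w : List ℕ} (h : okW w = true) : ∀ x ∈ w, x < 11 := fun x hx =>
  Nat.blt_eq.mp (List.all_eq_true.1 h x hx)

theorem rep_ev : ∀ {w : List ℕ}, (∀ x ∈ w, x < 11) →
    (rep (ev el w)).val = (w.map fun x => dec 248 (lett x)).prod := by
  intro w
  induction w with
  | nil => intro _; rw [ev_nil, map_one, Units.val_one, List.map_nil, List.prod_nil]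
  | cons a w ih =>
    intro h
    rw [ev_cons, map_mul, Units.val_mul, rep_el (h a List.mem_cons_self),
      ih fun x hx => h x (List.mem_cons_of_mem _ hx), List.map_cons, List.prod_cons]

theorem el_invc {x : ℕ} (hx : x < 11) (hinj : Function.Injective rep) : el (invc x) = (el x)⁻¹ := by
  have hy : invc x < 11 := (by decide : ∀ x < 11, invc x < 11) x hx
  refine eq_inv_of_mul_eq_one_left (hinj (Units.ext ?_))
  rw [map_mul, map_one, Units.val_mul, rep_el hy, rep_el hx, Units.val_one]
  have key : isOne248 [invc x, x] = true := by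
    interval_cases x
    exacts [inv_a, inv_b, inv_c, inv_d, inv_e, inv_si, inv_ti, inv_ui, inv_s, inv_t, inv_u]
  have e := isOne248_spec (w := [invc x, x]) (by simp [hx, hy]) key
  simpa using e

theorem ev_invW (hinj : Function.Injective rep) : ∀ {w : List ℕ}, (∀ x ∈ w, x < 11) →
    ev el (invW w) = (ev el w)⁻¹ := by
  intro w
  induction w with
  | nil => intro _; simp [invW, ev_nil]
  | cons a w ih =>
    intro h
    have hs : invW (a :: w) = invW w ++ [invc a] := by simp [invW]
    rw [hs, ev_append, ih fun x hx => h x (List.mem_cons_of_mem _ hx), ev_cons, ev_nil, mul_one,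
      el_invc (h a List.mem_cons_self) hinj, ev_cons, mul_inv_rev]

/-- The test that two words have the same matrix. -/
noncomputable def eqW (a b : List ℕ) : Bool := okW a && okW b && isOne248 (a ++ invW b)

/-- The test that two words have different matrices. -/
noncomputable def neW (a b : List ℕ) : Bool := okW a && okW b && !isOne248 (a ++ invW b)

theorem lt_append {a b : List ℕ} (ha : okW a = true) (hb : okW b = true) :
    ∀ x ∈ a ++ invW b, x < 11 := by
  intro x hx
  rcases List.mem_append.1 hx with h | h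
  · exact okW_lt ha x h
  · obtain ⟨y, hy, rfl⟩ := List.mem_map.1 (List.mem_reverse.1 h)
    exact (by decide : ∀ x < 11, invc x < 11) y (okW_lt hb y hy)

theorem eq_of_eqW (hinj : Function.Injective rep) {a b : List ℕ} (h : eqW a b = true) :
    ev el a = ev el b := by
  simp only [eqW, Bool.and_eq_true] at h
  obtain ⟨⟨ha, hb⟩, h⟩ := h
  have hlt := lt_append ha hb
  have e : ev el (a ++ invW b) = 1 := hinj (Units.ext (by
    rw [rep_ev hlt, map_one, Units.val_one]; exact isOne248_spec hlt h))
  rw [ev_append, ev_invW hinj (okW_lt hb), mul_inv_eq_one] at e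
  exact e

theorem isOne_of_prod {n : ℕ} (hn : 0 < n) (hn' : n ≤ 255) {L : List (List ℕ)}
    (hL : ∀ G ∈ L, okRows n G = true) (h : (L.map (dec n)).prod = 1) : ThGL.isOne n L = true := by
  rw [ThGL.isOne, Nat.beq_eq, forced_eq]
  obtain ⟨f, hf3, hfz, hP, hM⟩ := good_one (n := n)
  obtain ⟨g, hg3, hgz, hgP, hgM⟩ := (good_one (n := n)).prodW hn hn' L hL
  rw [one_mul, h] at hgM
  rw [hgP, hP]
  refine P_congr fun l hl => ?_
  have e := (hgM ⟨l / n, Nat.div_lt_of_lt_mul hl⟩ ⟨l % n, Nat.mod_lt _ hn⟩).symm.trans (hM _ _)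
  simp only [Nat.div_add_mod'] at e
  have e' := (ZMod.natCast_eq_natCast_iff' _ _ 3).1 e
  rwa [Nat.mod_eq_of_lt (hg3 l), Nat.mod_eq_of_lt (hf3 l)] at e'

theorem ne_of_neW (hinj : Function.Injective rep) {a b : List ℕ} (h : neW a b = true) :
    ev el a ≠ ev el b := by
  simp only [neW, Bool.and_eq_true, Bool.not_eq_true'] at h
  obtain ⟨⟨ha, hb⟩, h⟩ := h
  intro e
  have hlt := lt_append ha hb
  have e1 : ev el (a ++ invW b) = 1 := by
    rw [ev_append, ev_invW hinj (okW_lt hb), e, mul_inv_cancel]
  have e2 := rep_ev hlt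
  rw [e1, map_one, Units.val_one] at e2
  refine Bool.false_ne_true (h.symm.trans ?_)
  refine isOne_of_prod (by norm_num) (by norm_num) (fun G hG => ?_) ?_
  · obtain ⟨x, hx, rfl⟩ := List.mem_map.1 hG
    exact okLett x (hlt x hx)
  · rw [List.map_map]; exact e2.symm

/-- The letters of the involution centraliser. -/
def k11 (x : ℕ) : ℕ := [0, 2, 3, 4, 5, 8, 6, 9, 7, 10].getD x 0

theorem ne_of_beq {x y : ℕ} (h : Nat.beq x y = false) : x ≠ y := fun e => by
  subst e; simp at h

/-- The image of the test vector. -/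
noncomputable def runV (w : List ℕ) : ℕ := vProd 248 (w.map lett) 1

/-- The test that two words move the test vector alike. -/
noncomputable def sameV (a b : List ℕ) : Bool := okW a && okW b && Nat.beq (runV a) (runV b)

/-- The test that two words move the test vector differently. -/
noncomputable def diffV (a b : List ℕ) : Bool := okW a && okW b && !Nat.beq (runV a) (runV b)

theorem runV_good {w : List ℕ} (h : ∀ x ∈ w, x < 11) :
    GoodV 248 (runV w) (Matrix.vecMul (fun j : Fin 248 => if j.1 = 0 then 1 else 0) (rep (ev el w)).val) := by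
  have e := GoodV.prod (n := 248) (by norm_num) (w.map lett) (fun G hG => by
    obtain ⟨x, hx, rfl⟩ := List.mem_map.1 hG
    exact okLett x (h x hx)) (good_unit (n := 248) (by norm_num))
  rw [List.map_map] at e
  rw [rep_ev h]
  exact e

theorem ne_of_diffV {a b : List ℕ} (h : diffV a b = true) : ev el a ≠ ev el b := by
  simp only [diffV, Bool.and_eq_true, Bool.not_eq_true'] at h
  obtain ⟨⟨ha, hb⟩, h⟩ := h
  intro e
  refine ne_of_beq h ((runV_good (okW_lt ha)).unique ?_)
  rw [e]
  exact runV_good (okW_lt hb)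

/-- Two words equal up to `a` moving the test vector alike are equal. -/
theorem eq_of_sameV {a b : List ℕ} (h : sameV a b = true) (hd : diffV [0] [] = true)
    (hab : ev el a = ev el b ∨ ev el a = el 0 * ev el b) : ev el a = ev el b := by
  simp only [sameV, Bool.and_eq_true, Nat.beq_eq] at h
  obtain ⟨⟨ha, hb⟩, h⟩ := h
  rcases hab with e | e
  · exact e
  exfalso
  have g1 := runV_good (okW_lt ha)
  rw [h, e, map_mul, Units.val_mul, ← Matrix.vecMul_vecMul] at g1
  have h1 := congrArg (Matrix.vecMul · ((rep (ev el b))⁻¹).val) (g1.same (runV_good (okW_lt hb)))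
  simp only [Matrix.vecMul_vecMul, ← Units.val_mul, mul_inv_cancel_right, mul_inv_cancel, Units.val_one, mul_one, Matrix.vecMul_one] at h1
  simp only [diffV, Bool.and_eq_true, Bool.not_eq_true'] at hd
  have g0 := runV_good (w := [0]) (by simp)
  rw [ev_cons, ev_nil, mul_one, h1] at g0
  have gn := runV_good (w := []) (by simp)
  rw [ev_nil, map_one, Units.val_one, Matrix.vecMul_one] at gn
  exact ne_of_beq hd.2 (g0.unique gn)

end CfsgLib.Sporadic.ThOut
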