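import Cfsg.Agent.Lib.Sporadic.ThOut.Sym
import Cfsg.Agent.Lib.Sporadic.ThOut.Oracle
import Cfsg.Agent.Lib.Sporadic.ThOut.Data
import Cfsg.Agent.Lib.Sporadic.ThCent.Words

/-!
# Evaluations of the data for the automorphisms of the presented Thompson group
-/

set_option autoImplicit false

namespace CfsgLib.Sporadic.ThOut

/-- The word of a number below 512. -/
def qWord (n : ℕ) : List ℕ :=
  ((List.range 8).map fun i => if n.testBit i then qgW.getD i [] else []).flatten ++
    if n.testBit 8 then [0] else []

/-- The letters of the involution centraliser. -/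
def kW (w : List ℕ) : Bool := w.all fun x => Nat.blt x 11 && !Nat.beq x 1

/-- The position among the letters of the centraliser. -/
def k10 (x : ℕ) : ℕ := [0, 10, 1, 2, 3, 4, 6, 8, 5, 7, 9].getD x 10

/-- The image of a point under a word. -/
def pAt (w : List ℕ) (i : Fin 9) : Fin 9 :=
  w.foldr (fun x p => Fin.ofNat 9 ((ThCent.imgTable.getD (k10 x) [0, 1, 2, 3, 4, 5, 6, 7, 8]).getD p.1 0)) i

/-- Conjugation by a word. -/
def actW (w : List ℕ) (n : ℕ) : ℕ := w.foldr (fun x m => frc (actQ (letT.getD x [])) m) n

/-- The table of a word. -/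
def wordT (w : List ℕ) : List ℕ := (List.range 8).map fun i => actW w (2 ^ i)

/-- A word in lifts. -/
def xWord (X : List (List ℕ)) (L : List (ℕ × Bool)) : List ℕ :=
  (L.map fun p => if p.2 then X.getD p.1 [] else invW (X.getD p.1 [])).flatten

/-- The lift with which a lift commutes. -/
def parX (j : ℕ) : ℕ := [8, 8, 8, 7, 7, 7, 6, 6, 6].getD j 6

/-- The transposition. -/
def sw34 (i : Fin 9) : Fin 9 := if i = 3 then 4 else if i = 4 then 3 else i

/-- The word of a candidate. -/
def candW (k n : ℕ) : List ℕ := invW vW ++ (qWord n ++ rowW.getD k []) ++ vW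

/-- The targets of the candidates. -/
def tgtW : List (List ℕ) := [[1], [0, 1, 0], [0]]

/-- The test that two words of the centraliser are equal. -/
noncomputable def eqK (a b : List ℕ) : Bool :=
  kW a && kW b && (List.range 8).all (fun i => actW a (2 ^ i) == actW b (2 ^ i)) && sameV a b

end CfsgLib.Sporadic.ThOut
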