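import Cfsg.Agent.Lib.Sporadic.ThOut.Defs

/-!
# Conjugates of the involutions by the letters, checked on matrices
-/

set_option autoImplicit false
set_option maxRecDepth 100000
set_option Elab.async false

namespace CfsgLib.Sporadic.ThOut

theorem let_2_0 : eqW (2 :: qgW.getD 0 []) (qWord ((letT.getD 2 []).getD 0 0) ++ [2]) = true := by
  decide +kernel

theorem let_2_1 : eqW (2 :: qgW.getD 1 []) (qWord ((letT.getD 2 []).getD 1 0) ++ [2]) = true := by
  decide +kernel

theorem let_2_2 : eqW (2 :: qgW.getD 2 []) (qWord ((letT.getD 2 []).getD 2 0) ++ [2]) = true := by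
  decide +kernel

theorem let_2_3 : eqW (2 :: qgW.getD 3 []) (qWord ((letT.getD 2 []).getD 3 0) ++ [2]) = true := by
  decide +kernel

theorem let_2_4 : eqW (2 :: qgW.getD 4 []) (qWord ((letT.getD 2 []).getD 4 0) ++ [2]) = true := by
  decide +kernel

theorem let_2_5 : eqW (2 :: qgW.getD 5 []) (qWord ((letT.getD 2 []).getD 5 0) ++ [2]) = true := by
  decide +kernel

theorem let_2_6 : eqW (2 :: qgW.getD 6 []) (qWord ((letT.getD 2 []).getD 6 0) ++ [2]) = true := by
  decide +kernel

theorem let_2_7 : eqW (2 :: qgW.getD 7 []) (qWord ((letT.getD 2 []).getD 7 0) ++ [2]) = true := by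
  decide +kernel

theorem let_3_0 : eqW (3 :: qgW.getD 0 []) (qWord ((letT.getD 3 []).getD 0 0) ++ [3]) = true := by
  decide +kernel

theorem let_3_1 : eqW (3 :: qgW.getD 1 []) (qWord ((letT.getD 3 []).getD 1 0) ++ [3]) = true := by
  decide +kernel

theorem let_3_2 : eqW (3 :: qgW.getD 2 []) (qWord ((letT.getD 3 []).getD 2 0) ++ [3]) = true := by
  decide +kernel

theorem let_3_3 : eqW (3 :: qgW.getD 3 []) (qWord ((letT.getD 3 []).getD 3 0) ++ [3]) = true := by
  decide +kernel

theorem let_3_4 : eqW (3 :: qgW.getD 4 []) (qWord ((letT.getD 3 []).getD 4 0) ++ [3]) = true := by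
  decide +kernel

theorem let_3_5 : eqW (3 :: qgW.getD 5 []) (qWord ((letT.getD 3 []).getD 5 0) ++ [3]) = true := by
  decide +kernel

theorem let_3_6 : eqW (3 :: qgW.getD 6 []) (qWord ((letT.getD 3 []).getD 6 0) ++ [3]) = true := by
  decide +kernel

theorem let_3_7 : eqW (3 :: qgW.getD 7 []) (qWord ((letT.getD 3 []).getD 7 0) ++ [3]) = true := by
  decide +kernel

theorem let_4_0 : eqW (4 :: qgW.getD 0 []) (qWord ((letT.getD 4 []).getD 0 0) ++ [4]) = true := by
  decide +kernel

theorem let_4_1 : eqW (4 :: qgW.getD 1 []) (qWord ((letT.getD 4 []).getD 1 0) ++ [4]) = true := by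
  decide +kernel

theorem let_4_2 : eqW (4 :: qgW.getD 2 []) (qWord ((letT.getD 4 []).getD 2 0) ++ [4]) = true := by
  decide +kernel

theorem let_4_3 : eqW (4 :: qgW.getD 3 []) (qWord ((letT.getD 4 []).getD 3 0) ++ [4]) = true := by
  decide +kernel

theorem let_4_4 : eqW (4 :: qgW.getD 4 []) (qWord ((letT.getD 4 []).getD 4 0) ++ [4]) = true := by
  decide +kernel

theorem let_4_5 : eqW (4 :: qgW.getD 5 []) (qWord ((letT.getD 4 []).getD 5 0) ++ [4]) = true := by
  decide +kernel

theorem let_4_6 : eqW (4 :: qgW.getD 6 []) (qWord ((letT.getD 4 []).getD 6 0) ++ [4]) = true := by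
  decide +kernel

theorem let_4_7 : eqW (4 :: qgW.getD 7 []) (qWord ((letT.getD 4 []).getD 7 0) ++ [4]) = true := by
  decide +kernel

theorem let_5_0 : eqW (5 :: qgW.getD 0 []) (qWord ((letT.getD 5 []).getD 0 0) ++ [5]) = true := by
  decide +kernel

theorem let_5_1 : eqW (5 :: qgW.getD 1 []) (qWord ((letT.getD 5 []).getD 1 0) ++ [5]) = true := by
  decide +kernel

theorem let_5_2 : eqW (5 :: qgW.getD 2 []) (qWord ((letT.getD 5 []).getD 2 0) ++ [5]) = true := by
  decide +kernel

theorem let_5_3 : eqW (5 :: qgW.getD 3 []) (qWord ((letT.getD 5 []).getD 3 0) ++ [5]) = true := by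
  decide +kernel

theorem let_5_4 : eqW (5 :: qgW.getD 4 []) (qWord ((letT.getD 5 []).getD 4 0) ++ [5]) = true := by
  decide +kernel

theorem let_5_5 : eqW (5 :: qgW.getD 5 []) (qWord ((letT.getD 5 []).getD 5 0) ++ [5]) = true := by
  decide +kernel

theorem let_5_6 : eqW (5 :: qgW.getD 6 []) (qWord ((letT.getD 5 []).getD 6 0) ++ [5]) = true := by
  decide +kernel

theorem let_5_7 : eqW (5 :: qgW.getD 7 []) (qWord ((letT.getD 5 []).getD 7 0) ++ [5]) = true := by
  decide +kernel

theorem let_6_0 : eqW (6 :: qgW.getD 0 []) (qWord ((letT.getD 6 []).getD 0 0) ++ [6]) = true := by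
  decide +kernel

theorem let_6_1 : eqW (6 :: qgW.getD 1 []) (qWord ((letT.getD 6 []).getD 1 0) ++ [6]) = true := by
  decide +kernel

theorem let_6_2 : eqW (6 :: qgW.getD 2 []) (qWord ((letT.getD 6 []).getD 2 0) ++ [6]) = true := by
  decide +kernel

theorem let_6_3 : eqW (6 :: qgW.getD 3 []) (qWord ((letT.getD 6 []).getD 3 0) ++ [6]) = true := by
  decide +kernel

theorem let_6_4 : eqW (6 :: qgW.getD 4 []) (qWord ((letT.getD 6 []).getD 4 0) ++ [6]) = true := by
  decide +kernel

theorem let_6_5 : eqW (6 :: qgW.getD 5 []) (qWord ((letT.getD 6 []).getD 5 0) ++ [6]) = true := by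
  decide +kernel

theorem let_6_6 : eqW (6 :: qgW.getD 6 []) (qWord ((letT.getD 6 []).getD 6 0) ++ [6]) = true := by
  decide +kernel

theorem let_6_7 : eqW (6 :: qgW.getD 7 []) (qWord ((letT.getD 6 []).getD 7 0) ++ [6]) = true := by
  decide +kernel

theorem let_7_0 : eqW (7 :: qgW.getD 0 []) (qWord ((letT.getD 7 []).getD 0 0) ++ [7]) = true := by
  decide +kernel

theorem let_7_1 : eqW (7 :: qgW.getD 1 []) (qWord ((letT.getD 7 []).getD 1 0) ++ [7]) = true := by
  decide +kernel

theorem let_7_2 : eqW (7 :: qgW.getD 2 []) (qWord ((letT.getD 7 []).getD 2 0) ++ [7]) = true := by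
  decide +kernel

theorem let_7_3 : eqW (7 :: qgW.getD 3 []) (qWord ((letT.getD 7 []).getD 3 0) ++ [7]) = true := by
  decide +kernel

theorem let_7_4 : eqW (7 :: qgW.getD 4 []) (qWord ((letT.getD 7 []).getD 4 0) ++ [7]) = true := by
  decide +kernel

theorem let_7_5 : eqW (7 :: qgW.getD 5 []) (qWord ((letT.getD 7 []).getD 5 0) ++ [7]) = true := by
  decide +kernel

theorem let_7_6 : eqW (7 :: qgW.getD 6 []) (qWord ((letT.getD 7 []).getD 6 0) ++ [7]) = true := by
  decide +kernel

theorem let_7_7 : eqW (7 :: qgW.getD 7 []) (qWord ((letT.getD 7 []).getD 7 0) ++ [7]) = true := by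
  decide +kernel

theorem let_ok : ∀ x ∈ [2, 3, 4, 5, 6, 7], ∀ i < 8,
    eqW (x :: qgW.getD i []) (qWord ((letT.getD x []).getD i 0) ++ [x]) = true := by
  intro x hx i hi
  fin_cases hx <;> interval_cases i
  exacts [let_2_0, let_2_1, let_2_2, let_2_3, let_2_4, let_2_5, let_2_6, let_2_7, let_3_0, let_3_1, let_3_2, let_3_3, let_3_4, let_3_5, let_3_6, let_3_7, let_4_0, let_4_1, let_4_2, let_4_3, let_4_4, let_4_5, let_4_6, let_4_7, let_5_0, let_5_1, let_5_2, let_5_3, let_5_4, let_5_5, let_5_6, let_5_7, let_6_0, let_6_1, let_6_2, let_6_3, let_6_4, let_6_5, let_6_6, let_6_7, let_7_0, let_7_1, let_7_2, let_7_3, let_7_4, let_7_5, let_7_6, let_7_7]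

end CfsgLib.Sporadic.ThOut
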