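import Cfsg.Agent.Lib.Sporadic.ThOut.Aut
import Cfsg.Agent.Lib.Sporadic.ThCent.Main
import Cfsg.Agent.Lib.Sporadic.ThParts.Main

/-!
# The outer automorphism group of the presented Thompson group is trivial

An automorphism fixing the centraliser of `a` sends `b` to an involution of the centraliser of `d`. Transported
to the centraliser of `a` this leaves nine candidates, of which six do not commute with `e`.
-/

set_option autoImplicit false
set_option maxRecDepth 100000

namespace CfsgLib.Sporadic.ThOut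

open CfsgLib.Sporadic.ONTriple Cfsg Cfsg.Spor

theorem row_kind : ∀ k < 9, ∀ p ∈ rowR.getD k [], p.2 < 3 →
    (k, p.1, p.2) ∈ [(6, 257, 1), (7, 2, 0), (8, 182, 2)] := by decide +kernel

theorem b_image (F : Facts) {β : MulAut Th} (hfix : ∀ c ∈ CA, β c = c) :
    β (el 1) = el 1 ∨ β (el 1) = el 0 * el 1 * el 0 := by
  obtain ⟨-, -, -, haV, htV, -, hvV, hrow, heW, -⟩ := words_ok
  obtain ⟨hbb, hab, hbd, hbe, hbt⟩ := b_basic
  obtain ⟨B, hB⟩ : ∃ B, B = β (el 1) := ⟨_, rfl⟩
  rw [← hB]
  have hcw : ∀ w, kW w = true → eqW (1 :: w) (w ++ [1]) = true → B * ev el w = ev el w * B := by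
    intro w hw he
    have e := F.eqv he
    rw [ev_cons, ev_append, el_word1] at e
    have e' := congrArg β e
    rwa [map_mul, map_mul, hfix _ (word_mem F hw), ← hB] at e'
  have hBB : B * B = 1 := by
    have e := congrArg β (F.eqv hbb)
    simp only [ev_cons, ev_nil, mul_one, map_mul, map_one, ← hB] at e
    exact e
  have h0 : β (el 0) = el 0 := hfix _ (el0_mem F)
  have hAB : el 0 * B * (el 0 * B) * (el 0 * B) = 1 := by
    have e := congrArg β (F.eqv hab)
    simp only [ev_cons, ev_nil, mul_one, map_mul, map_one, ← hB, h0] at e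
    rw [← e]
    simp only [mul_assoc]
  obtain ⟨V, hV⟩ : ∃ V, V = ev el vW := ⟨_, rfl⟩
  have hv : ∀ a b, eqW (vW ++ a) (b ++ vW) = true → V * ev el a * V⁻¹ = ev el b := by
    intro a b h
    have e := F.eqv h
    rw [ev_append, ev_append, ← hV] at e
    rw [e, mul_inv_cancel_right]
  have hd := hv [3] [0] v_d
  rw [el_word1, el_word1] at hd
  have hA := hv [0] aV v_a
  rw [el_word1] at hA
  have hT := hv [6] tV v_t
  rw [el_word1] at hT
  obtain ⟨C, hC⟩ : ∃ C, C = V * B * V⁻¹ := ⟨_, rfl⟩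
  have conjC : ∀ y y', V * y * V⁻¹ = y' → B * y = y * B → C * y' = y' * C := by
    intro y y' hy hBy
    rw [hC, ← hy]
    calc V * B * V⁻¹ * (V * y * V⁻¹) = V * (B * y) * V⁻¹ := by group
      _ = V * (y * B) * V⁻¹ := by rw [hBy]
      _ = _ := by group
  have hCmem : C ∈ CA := Subgroup.mem_centralizer_singleton_iff.2 (conjC _ _ hd (by
    have := hcw [3] rfl hbd; rwa [el_word1] at this))
  have hCT : C * ev el tV = ev el tV * C := conjC _ _ hT (by
    have := hcw [6] rfl hbt; rwa [el_word1] at this)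
  have hCE : ∀ k < 3, C * qE (eN.getD k 0) = qE (eN.getD k 0) * C := by
    intro k hk
    refine conjC (ev el (eW.getD k [])) _ ?_ (hcw _ (heW k hk) ?_)
    · rw [← qE_word F, ← eqK_ev F (eS_ok k hk)]
      refine hv _ _ ?_
      interval_cases k
      exacts [v_e_0, v_e_1, v_e_2]
    · interval_cases k
      exacts [b_e_0, b_e_1, b_e_2]
  have hCC : C * C = 1 := by
    rw [hC]
    calc V * B * V⁻¹ * (V * B * V⁻¹) = V * (B * B) * V⁻¹ := by group
      _ = 1 := by rw [hBB]; group
  have hAC : ev el aV * C * (ev el aV * C) * (ev el aV * C) = 1 := by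
    rw [hC, ← hA]
    calc _ = V * (el 0 * B * (el 0 * B) * (el 0 * B)) * V⁻¹ := by group
      _ = 1 := by rw [hAB]; group
  obtain ⟨c, hc⟩ : ∃ c : CA, c = ⟨C, hCmem⟩ := ⟨_, rfl⟩
  obtain ⟨σ, hσ⟩ : ∃ σ, σ = psiT F c := ⟨_, rfl⟩
  have hσT : ∀ p, σ (pAt tV p) = pAt tV (σ p) := by
    intro p
    have e : c * ⟨ev el tV, word_mem F htV⟩ = ⟨ev el tV, word_mem F htV⟩ * c := Subtype.ext (by rw [hc]; exact hCT)
    have := congrArg (fun z => psiT F z p) e
    simp only [map_mul, Equiv.Perm.mul_apply, psiT_word F htV, ← hσ] at this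
    exact this
  have hσ2 : ∀ p, σ (σ p) = p := by
    intro p
    have e : c * c = 1 := Subtype.ext (by rw [hc]; exact hCC)
    have := congrArg (fun z => psiT F z p) e
    simpa only [map_mul, map_one, Equiv.Perm.mul_apply, Equiv.Perm.one_apply, ← hσ] using this
  have hσA : ∀ p, pAt aV (σ (pAt aV (σ (pAt aV (σ p))))) = p := by
    intro p
    have e : ⟨ev el aV, word_mem F haV⟩ * c * (⟨ev el aV, word_mem F haV⟩ * c) * (⟨ev el aV, word_mem F haV⟩ * c) = 1 :=
      Subtype.ext (by rw [hc]; exact hAC)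
    have := congrArg (fun z => psiT F z p) e
    simpa only [map_mul, map_one, Equiv.Perm.mul_apply, Equiv.Perm.one_apply, psiT_word F haV, ← hσ] using this
  obtain ⟨ht3, ht4, ht5, ht8, ht0, ht1, ht2, hfx⟩ := t_perm
  have hlt : ∀ i : Fin 9, pAt tV i = i → (σ i : ℕ) < 3 := fun i hi => hfx _ (by rw [← hσT, hi])
  obtain ⟨L, hL⟩ : ∃ L, L = mkP ⟨σ 0, hlt 0 ht0⟩ ⟨σ 1, hlt 1 ht1⟩ ⟨σ 2, hlt 2 ht2⟩ (σ 3) (σ 5) := ⟨_, rfl⟩
  have hLσ : ∀ p, atP L p = σ p := by
    have e4 : σ 4 = pAt tV (σ 3) := by rw [← hσT, ht3]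
    have e6 : σ 6 = pAt tV (pAt tV (σ 3)) := by rw [← e4, ← hσT, ht4]
    have e8 : σ 8 = pAt tV (σ 5) := by rw [← hσT, ht5]
    have e7 : σ 7 = pAt tV (pAt tV (σ 5)) := by rw [← e8, ← hσT, ht8]
    intro p
    rw [hL]
    refine Fin.ext ?_
    fin_cases p <;> simp only [atP, mkP, Fin.ofNat, List.getD_cons_zero, List.getD_cons_succ] <;>
      simp [Nat.mod_eq_of_lt, Fin.isLt, e4, e6, e7, e8]
  have hmem : L ∈ survP := by
    rw [hL]
    refine surv_ok _ _ _ _ _ fun p => ?_
    rw [← hL]
    simp only [hLσ]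
    exact ⟨hσ2 p, hσA p⟩
  obtain ⟨k, hk, hkL⟩ := List.getElem_of_mem hmem
  have hk9 : k < 9 := hk
  obtain ⟨w, hw⟩ : ∃ w, w = rowW.getD k [] := ⟨_, rfl⟩
  have hwk : kW w = true := hw ▸ hrow k hk9
  obtain ⟨n, hn, hne⟩ := psiT_ker F (z := c * (⟨ev el w, word_mem F hwk⟩ : CA)⁻¹) (by
    rw [map_mul, map_inv, mul_inv_eq_one]
    refine Equiv.ext fun p => ?_
    rw [← hσ, psiT_word F hwk, hw, surv_row k hk9, List.getD_eq_getElem _ _ hk, hkL, hLσ])
  have hCn : C = qE n * ev el w := by
    rw [← hne, hc]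
    show C = C * (ev el w)⁻¹ * ev el w
    rw [inv_mul_cancel_right]
  have wT := eqK_ev F (row_ok k hk9).1
  have ww := eqK_ev F (row_ok k hk9).2.1
  have www := eqK_ev F (row_ok k hk9).2.2
  rw [ev_append, ev_append, ev_append, qE_word F, ← hw] at wT
  rw [ev_append, qE_word F, ← hw] at ww
  rw [ev_append, ev_append, qE_word F, ← hw] at www
  have huk : kW (aV ++ w) = true := by
    rw [kW, List.all_append, Bool.and_eq_true]; exact ⟨haV, hwk⟩
  have hcand : candOK (wordT w) (wordT aV) (wordT tV) (wordT (aV ++ w))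
      (rowD.getD k 0) (rowS.getD k 0) (rowC.getD k 0) n = true := by
    have heN : ∀ i < 3, eN.getD i 0 < 512 := by decide
    simp only [candOK, Bool.and_eq_true, List.all_eq_true, List.mem_range, beq_iff_eq]
    refine ⟨⟨⟨fun i hi => ?_, ?_⟩, ?_⟩, ?_⟩
    · refine qE_inj F (mulQ_lt hn) (mulQ_lt (heN i hi)) ?_
      have e := hCE i hi
      rw [hCn, mul_assoc, act_table F hwk, ← mul_assoc, ← mul_assoc, qE_mul F, qE_mul F, mul_left_inj] at e
      exact e
    · refine qE_inj F (mulQ_lt hn) (actQ_lt _ _) ?_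
      have e := hCT
      rw [hCn, mul_assoc, wT, ← mul_assoc (ev el tV), act_table F htV, mul_assoc (qE (rowD.getD k 0)),
        ← mul_assoc, qE_mul F, mul_assoc (qE (actQ _ n))] at e
      exact mul_right_cancel e
    · refine qE_inj F (mulQ_lt (mulQ_lt hn)) (by norm_num) ?_
      rw [qE_zero F, ← hCC, hCn, ← qE_mul F, ← qE_mul F, ← ww, mul_assoc (qE n) (ev el w), ← mul_assoc (ev el w),
        act_table F hwk]
      simp only [mul_assoc]
    · refine qE_inj F (mulQ_lt (mulQ_lt (mulQ_lt (actQ_lt _ _)))) (by norm_num) ?_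
      obtain ⟨u, hu⟩ : ∃ u, u = ev el (aV ++ w) := ⟨_, rfl⟩
      have e1 : ev el aV * C = qE (actQ (wordT aV) n) * u := by
        rw [hCn, ← mul_assoc, act_table F haV, mul_assoc, hu, ev_append]
      have hu2 : ∀ j, u * qE j = qE (actQ (wordT (aV ++ w)) j) * u := fun j => hu ▸ act_table F huk j
      rw [qE_zero F, ← hAC, e1, ← qE_mul F, ← qE_mul F, ← qE_mul F, ← www, ← hu]
      generalize actQ (wordT aV) n = j
      calc qE j * (qE (actQ (wordT (aV ++ w)) j)) * qE (actQ (wordT (aV ++ w)) (actQ (wordT (aV ++ w)) j)) * (u * u * u)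
          = qE j * qE (actQ (wordT (aV ++ w)) j) * (qE (actQ (wordT (aV ++ w)) (actQ (wordT (aV ++ w)) j)) * u) * u * u := by
            simp only [mul_assoc]
        _ = qE j * qE (actQ (wordT (aV ++ w)) j) * (u * qE (actQ (wordT (aV ++ w)) j)) * u * u := by rw [hu2]
        _ = qE j * (qE (actQ (wordT (aV ++ w)) j) * u) * (qE (actQ (wordT (aV ++ w)) j) * u) * u := by
            simp only [mul_assoc]
        _ = qE j * (u * qE j) * (u * qE j) * u := by rw [hu2]
        _ = _ := by simp only [mul_assoc]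
  obtain ⟨p, hp, hpn⟩ := List.mem_map.1 (cand_ok k hk9 n hn (hw ▸ hcand))
  subst hpn
  have hBw : B = ev el (candW k p.1) := by
    rw [candW, ev_append, ev_append, ev_append, qE_word F, ev_invW F.inj (okW_lt hvV), ← hV, ← hw, ← hCn, hC]
    group
  rcases lt_or_ge p.2 3 with h3 | h3
  · have key : ∀ tgt, qE p.1 * ev el w * V = V * ev el tgt → B = ev el tgt := fun tgt h => by
      rw [hBw, candW, ev_append, ev_append, ev_append, qE_word F, ev_invW F.inj (okW_lt hvV), ← hV, ← hw,
        mul_assoc, h, inv_mul_cancel_left]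
    rcases List.mem_cons.1 (row_kind k hk9 p hp h3) with e | e'
    · simp only [Prod.mk.injEq] at e
      obtain ⟨rfl, e1, -⟩ := e
      right
      have h := F.eqv cand_6_257
      rw [ev_append, ev_append, ev_append, qE_word F, ← hV, ← hw] at h
      rw [key [0, 1, 0] (by rw [e1]; exact h)]
      simp [mul_assoc]
    rcases List.mem_cons.1 e' with e | e''
    · simp only [Prod.mk.injEq] at e
      obtain ⟨rfl, e1, -⟩ := e
      left
      have h := F.eqv cand_7_2
      rw [ev_append, ev_append, ev_append, qE_word F, ← hV, ← hw] at h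
      rw [key [1] (by rw [e1]; exact h), el_word1]
    · obtain ⟨rfl, e1, -⟩ := by simpa only [Prod.mk.injEq] using List.mem_singleton.1 e''
      exfalso
      have h := F.eqv cand_8_182
      rw [ev_append, ev_append, ev_append, ← eqK_ev F q182_ok, qE_word F, ← hV, ← hw] at h
      have hB0 := key [0] (by rw [e1]; exact h)
      rw [el_word1, hB, ← h0, β.injective.eq_iff] at hB0
      exact ne_of_diffV a_ne.2 (by rw [el_word1, el_word1]; exact hB0)
  · exfalso
    refine ne_of_diffV (cand_ne k hk9 p hp h3) ?_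
    rw [ev_append, ev_cons (L := candW k p.1), el_word1, ← hBw]
    have := hcw [4] rfl hbe
    rwa [el_word1] at this

theorem mem_inn (F : Facts) (α : MulAut Th) : α ∈ Inn Th := by
  obtain ⟨g, hg⟩ := exists_fix_CA F α
  obtain ⟨β, hβ⟩ : ∃ β, β = MulAut.conj g * α := ⟨_, rfl⟩
  rw [← hβ] at hg
  have ext : ∀ γ : MulAut Th, (∀ c ∈ CA, γ c = c) → γ (el 1) = el 1 → γ = 1 := by
    intro γ hc hb
    refine MulEquiv.ext fun x => ?_
    have hx := PresentedGroup.closure_range_of (coxRelators Th.edges ∪ {r | r ∈ Th.extra})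
    have hm : x ∈ Subgroup.closure (Set.range (PresentedGroup.of : Th.Gen → Th)) := hx ▸ Subgroup.mem_top x
    induction hm using Subgroup.closure_induction with
    | mem y hy =>
      obtain ⟨i, rfl⟩ := hy
      have h : ∀ w, kW w = true → γ (ev el w) = ev el w := fun w hw => hc _ (word_mem F hw)
      cases i
      · simpa [el, pr] using h [0] rfl
      · simpa [el, pr] using hb
      · simpa [el, pr] using h [2] rfl
      · simpa [el, pr] using h [3] rfl
      · simpa [el, pr] using h [4] rfl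
      · simpa [el, pr] using h [5] rfl
      · simpa [el, pr] using h [6] rfl
      · simpa [el, pr] using h [7] rfl
    | one => simp
    | mul u v _ _ hu hv => rw [map_mul, hu, hv]; rfl
    | inv u _ hu => rw [map_inv, hu]; rfl
  have hI : ∀ x : Th, MulAut.conj x ∈ Inn Th := fun x => ⟨x, rfl⟩
  have hinn : β ∈ Inn Th := by
    rcases b_image F hg with h | h
    · rw [ext β hg h]; exact one_mem _
    · have hz := (anti F).zz
      have e : MulAut.conj (el 0) * β = 1 := by
        refine ext _ (fun c hc => ?_) ?_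
        · rw [MulAut.mul_apply, hg c hc, MulAut.conj_apply, ← Subgroup.mem_centralizer_singleton_iff.1 hc,
            mul_inv_cancel_right]
        · rw [MulAut.mul_apply, h, MulAut.conj_apply, inv_eq_of_mul_eq_one_right hz]
          simp only [mul_assoc, hz, mul_one]
          rw [← mul_assoc, hz, one_mul]
      rw [eq_inv_of_mul_eq_one_right e]
      exact inv_mem (hI _)
  rwa [hβ, Subgroup.mul_mem_cancel_left _ (hI g)] at hinn

/-- The facts hold. -/
theorem facts : Facts := by
  have hd := ThParts.th_dvd_card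
  have : IsSimpleGroup Th := ThIndex.isSimple_of hd
  refine ⟨ThGL.rep_injective, ThIndex.card_ThG_of hd, ?_⟩
  have := ThCent.card_centralizer_upper hd
  rwa [← el_k11 (show 0 < 10 by norm_num)] at this

theorem card_out : Nat.card (Out Th) = 1 := by
  show (Inn Th).index = 1
  rw [Subgroup.index_eq_one, eq_top_iff]
  exact fun α _ => mem_inn facts α

end CfsgLib.Sporadic.ThOut
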