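import Cfsg.Agent.Lib.Sporadic.ONTriple.Apply

/-!
# An extraspecial group of order `2 ^ 9` on numbers below 512

The lower eight bits of a number tell which of eight involutions occur in a product taken in increasing
order, the ninth bit tells whether the central involution is appended.
-/

set_option autoImplicit false

namespace CfsgLib.Sporadic.ThOut

open CfsgLib.Sporadic.ONTriple

/-- The ninth bit. -/
def eb (b : Bool) : ℕ := if b then 256 else 0

/-- Feed a numeral to a function. -/
def frc (g : ℕ → ℕ) (m : ℕ) : ℕ :=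
  match m with
  | 0 => g 0
  | k + 1 => g (k + 1)

theorem frc_eq (g : ℕ → ℕ) (m : ℕ) : frc g m = g m := by cases m <;> rfl

/-- The parity of the selected indices between `i` and `k`. -/
def parB (i : ℕ) : ℕ → ℕ → Bool
  | 0, _ => false
  | k + 1, n => xor (parB i k n) (decide (i < k) && n.testBit k)

/-- Multiplication by a generator. -/
def mg (n i : ℕ) : ℕ := n ^^^ 2 ^ i ^^^ eb (parB i 8 n)

/-- Multiplication by the first `k` selected generators of `m`. -/
def mulK (n m : ℕ) : ℕ → ℕ
  | 0 => n
  | k + 1 => if m.testBit k then frc (fun r => mg r k) (mulK n m k) else mulK n m k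

/-- The product. -/
def mulQ (n m : ℕ) : ℕ := mulK n m 8 ^^^ eb (m.testBit 8)

/-- The inverse. -/
def invQ (n : ℕ) : ℕ := n ^^^ eb ((mulQ n n).testBit 8)

/-- The image of the first `k` selected generators under a table. -/
def actK (T : List ℕ) (n : ℕ) : ℕ → ℕ
  | 0 => 0
  | k + 1 => if n.testBit k then frc (fun r => frc (mulQ r) (T.getD k 0)) (actK T n k) else actK T n k

/-- The image under a table. -/
def actQ (T : List ℕ) (n : ℕ) : ℕ := actK T n 8 ^^^ eb (n.testBit 8)

/-! ### The low bits -/

theorem eb_testBit (b : Bool) {j : ℕ} (hj : j < 8) : (eb b).testBit j = false := by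
  cases b
  · simp [eb]
  · show (256 : ℕ).testBit j = false
    rw [show (256 : ℕ) = 2 ^ 8 from rfl, Nat.testBit_two_pow_of_ne (by omega)]

theorem mulK_testBit (n m : ℕ) : ∀ k ≤ 8, ∀ j < 8,
    (mulK n m k).testBit j = xor (n.testBit j) (decide (j < k) && m.testBit j) := by
  intro k
  induction k with
  | zero => intro _ j _; simp [mulK]
  | succ k ih =>
    intro hk j hj
    have h := ih (by omega) j hj
    rcases lt_trichotomy j k with hjk | rfl | hjk
    · have e1 : decide (j < k + 1) = true := decide_eq_true (by omega)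
      have e2 : decide (j < k) = true := decide_eq_true hjk
      rw [e2] at h
      rw [e1, mulK]
      split
      · rw [frc_eq, mg, Nat.testBit_xor, Nat.testBit_xor, eb_testBit _ hj, Nat.testBit_two_pow_of_ne (by omega),
          Bool.xor_false, Bool.xor_false, h]
      · exact h
    · have e1 : decide (j < j + 1) = true := decide_eq_true (by omega)
      have e2 : decide (j < j) = false := decide_eq_false (by omega)
      rw [e2, Bool.false_and, Bool.xor_false] at h
      rw [e1, Bool.true_and, mulK]
      split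
      · rename_i hm
        rw [frc_eq, mg, Nat.testBit_xor, Nat.testBit_xor, eb_testBit _ hj, Nat.testBit_two_pow_self, Bool.xor_false,
          h, hm]
      · rename_i hm
        rw [h, Bool.eq_false_iff.2 hm, Bool.xor_false]
    · have e1 : decide (j < k + 1) = false := decide_eq_false (by omega)
      have e2 : decide (j < k) = false := decide_eq_false (by omega)
      rw [e2] at h
      rw [e1, mulK]
      split
      · rw [frc_eq, mg, Nat.testBit_xor, Nat.testBit_xor, eb_testBit _ hj, Nat.testBit_two_pow_of_ne (by omega),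
          Bool.xor_false, Bool.xor_false, h]
      · exact h

theorem mulQ_testBit (n m : ℕ) {j : ℕ} (hj : j < 8) :
    (mulQ n m).testBit j = xor (n.testBit j) (m.testBit j) := by
  rw [mulQ, Nat.testBit_xor, eb_testBit _ hj, Bool.xor_false, mulK_testBit n m 8 le_rfl j hj,
    decide_eq_true hj, Bool.true_and]

theorem invQ_testBit (n : ℕ) {j : ℕ} (hj : j < 8) : (invQ n).testBit j = n.testBit j := by
  rw [invQ, Nat.testBit_xor, eb_testBit _ hj, Bool.xor_false]

/-! ### The values in a group -/

variable {G : Type*} [Group G]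

/-- A central factor. -/
def zb (z : G) (b : Bool) : G := if b then z else 1

/-- The product of the first `k` selected generators. -/
def qp (g : ℕ → G) (n : ℕ) : ℕ → G
  | 0 => 1
  | k + 1 => qp g n k * if n.testBit k then g k else 1

/-- The value of a number. -/
def qv (g : ℕ → G) (z : G) (n : ℕ) : G := qp g n 8 * zb z (n.testBit 8)

/-- Eight anticommuting involutions and a central involution. -/
structure Anti (g : ℕ → G) (z : G) : Prop where
  zz : z * z = 1
  zg : ∀ i < 8, z * g i = g i * z
  gg : ∀ i < 8, g i * g i = 1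
  anti : ∀ i < 8, ∀ j < 8, i ≠ j → g j * g i = g i * g j * z
  ne : z ≠ 1

variable {g : ℕ → G} {z : G}

theorem qp_congr {n m : ℕ} : ∀ k, (∀ j < k, n.testBit j = m.testBit j) → qp g n k = qp g m k := by
  intro k
  induction k with
  | zero => intro _; rfl
  | succ k ih => intro h; rw [qp, qp, ih fun j hj => h j (by omega), h k (by omega)]

theorem zb_mul (hz : z * z = 1) (b c : Bool) : zb z b * zb z c = zb z (xor b c) := by
  cases b <;> cases c <;> simp [zb, hz]

theorem zb_comm (h : Anti g z) (b : Bool) {i : ℕ} (hi : i < 8) : zb z b * g i = g i * zb z b := by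
  cases b <;> simp [zb, h.zg i hi]

theorem qv_congr {n m : ℕ} (h : ∀ j ≤ 8, n.testBit j = m.testBit j) : qv g z n = qv g z m := by
  rw [qv, qv, qp_congr 8 fun j hj => h j (by omega), h 8 le_rfl]

theorem qv_flip (h : Anti g z) (n : ℕ) (b : Bool) : qv g z (n ^^^ eb b) = qv g z n * zb z b := by
  have h8 : (eb b).testBit 8 = b := by cases b <;> decide
  rw [qv, qv, qp_congr 8 (m := n) fun j hj => by rw [Nat.testBit_xor, eb_testBit b hj, Bool.xor_false],
    Nat.testBit_xor, h8, mul_assoc, zb_mul h.zz]

theorem qv_zero : qv g z 0 = 1 := by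
  simp [qv, qp, zb]

theorem qp_mul (h : Anti g z) {i : ℕ} (hi : i < 8) (n : ℕ) : ∀ k ≤ 8, i < k →
    qp g n k * g i = qp g (n ^^^ 2 ^ i) k * zb z (parB i k n) := by
  intro k
  induction k with
  | zero => intro _ hik; omega
  | succ k ih =>
    intro hk hik
    rcases Nat.lt_succ_iff_lt_or_eq.1 hik with hlt | rfl
    · have e := ih (by omega) hlt
      have hb : (n ^^^ 2 ^ i).testBit k = n.testBit k := by
        rw [Nat.testBit_xor, Nat.testBit_two_pow_of_ne (by omega), Bool.xor_false]
      rw [qp, qp, hb, parB, decide_eq_true hlt, Bool.true_and, ← zb_mul h.zz]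
      cases n.testBit k
      · simp only [Bool.false_eq_true, if_false, mul_one]
        rw [e]; simp [zb]
      · simp only [if_true]
        have hc : g k * g i = g i * g k * z := h.anti i hi k (by omega) (by omega)
        rw [mul_assoc, hc, ← mul_assoc, ← mul_assoc, e]
        show qp g (n ^^^ 2 ^ i) k * zb z (parB i k n) * g k * z = _
        rw [mul_assoc (qp g _ k), zb_comm h _ (show k < 8 by omega)]
        simp only [zb, if_true, mul_assoc]
    · have hp : ∀ m, parB i (i + 1) m = false := by
        have aux : ∀ m, ∀ l ≤ i + 1, parB i l m = false := by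
          intro m l
          induction l with
          | zero => intro _; rfl
          | succ l ihl =>
            intro hl
            rw [parB, ihl (by omega), decide_eq_false (by omega)]
            rfl
        exact fun m => aux m _ le_rfl
      have hb : (n ^^^ 2 ^ i).testBit i = !n.testBit i := by
        rw [Nat.testBit_xor, Nat.testBit_two_pow_self, Bool.xor_true]
      rw [hp, qp, qp, hb, qp_congr i (n := n ^^^ 2 ^ i) (m := n) fun j hj => by
        rw [Nat.testBit_xor, Nat.testBit_two_pow_of_ne (by omega), Bool.xor_false]]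
      cases n.testBit i <;> simp [zb, mul_assoc, h.gg i hi]

theorem qv_mg (h : Anti g z) (n : ℕ) {i : ℕ} (hi : i < 8) : qv g z n * g i = qv g z (mg n i) := by
  rw [mg, qv_flip h, qv, qv, Nat.testBit_xor, Nat.testBit_two_pow_of_ne (by omega), Bool.xor_false,
    mul_assoc, zb_comm h _ hi, ← mul_assoc, qp_mul h hi n 8 le_rfl hi, mul_assoc, mul_assoc, zb_mul h.zz,
    zb_mul h.zz, Bool.xor_comm]

theorem qv_mulK (h : Anti g z) (n m : ℕ) : ∀ k ≤ 8, qv g z n * qp g m k = qv g z (mulK n m k) := by
  intro k
  induction k with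
  | zero => intro _; rw [qp, mul_one]; rfl
  | succ k ih =>
    intro hk
    rw [qp, mulK, ← mul_assoc, ih (by omega)]
    split
    · rw [frc_eq]; exact qv_mg h _ (by omega)
    · exact mul_one _

theorem qv_mul (h : Anti g z) (n m : ℕ) : qv g z n * qv g z m = qv g z (mulQ n m) := by
  show qv g z n * (qp g m 8 * zb z (m.testBit 8)) = _
  rw [mulQ, qv_flip h, ← qv_mulK h n m 8 le_rfl, mul_assoc]

theorem qv_two_pow (h : Anti g z) {i : ℕ} (hi : i < 8) : qv g z (2 ^ i) = g i := by
  rw [show 2 ^ i = mg 0 i from (by decide : ∀ i < 8, 2 ^ i = mg 0 i) i hi, ← qv_mg h 0 hi, qv_zero, one_mul]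

theorem qv_256 : qv g z 256 = z := by
  have h : ∀ j < 8, (256 : ℕ).testBit j = (0 : ℕ).testBit j := by decide
  rw [qv, qp_congr 8 h, show (256 : ℕ).testBit 8 = true by decide]
  simp [qp, zb]

/-- Some generator does not commute with a number whose low part is not zero. -/
theorem sig_ok : ∀ n < 256, n ≠ 0 → ∃ i < 8, mulQ (2 ^ i) n = mg n i ^^^ 256 := by decide +kernel

theorem low_zero (h : Anti g z) {n : ℕ} (hn : qv g z n = 1) : n % 256 = 0 := by
  by_contra hne
  obtain ⟨m, hm⟩ : ∃ m, m = n % 256 := ⟨_, rfl⟩
  have e : qv g z m = zb z (n.testBit 8) := by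
    have h1 : qv g z n = qv g z m * zb z (n.testBit 8) := by
      rw [qv, qv, hm, qp_congr 8 (n := n) (m := n % 256) fun j hj => by
          rw [show (256 : ℕ) = 2 ^ 8 from rfl, Nat.testBit_mod_two_pow, decide_eq_true hj, Bool.true_and],
        show (n % 256).testBit 8 = false by
          rw [show (256 : ℕ) = 2 ^ 8 from rfl, Nat.testBit_mod_two_pow, decide_eq_false (by omega)]; rfl]
      simp [zb]
    rw [hn] at h1
    have h2 := congrArg (· * zb z (n.testBit 8)) h1
    simp only [one_mul, mul_assoc, zb_mul h.zz, Bool.xor_self] at h2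
    rw [h2]
    simp [zb]
  obtain ⟨i, hi, hcomm⟩ := sig_ok m (hm ▸ Nat.mod_lt _ (by norm_num)) (hm ▸ hne)
  have h1 := qv_mul h (2 ^ i) m
  rw [hcomm, show (256 : ℕ) = eb true from rfl, qv_flip h, ← qv_mg h m hi, qv_two_pow h hi, e,
    ← zb_comm h _ hi] at h1
  exact h.ne (left_eq_mul.1 h1)

theorem qv_inj (h : Anti g z) {n m : ℕ} (hn : n < 512) (hm : m < 512) (he : qv g z n = qv g z m) :
    n = m := by
  have hlow : ∀ j < 8, n.testBit j = m.testBit j := by
    have hiv : mulQ m (invQ m) = 0 := (by decide +kernel : ∀ m < 512, mulQ m (invQ m) = 0) m hm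
    have h1 : qv g z (mulQ n (invQ m)) = 1 := by
      rw [← qv_mul h, he, qv_mul h, hiv, qv_zero]
    intro j hj
    have h2 := low_zero h h1
    have h3 : (mulQ n (invQ m)).testBit j = false := by
      have h4 := Nat.testBit_mod_two_pow (mulQ n (invQ m)) 8 j
      rw [show (2 : ℕ) ^ 8 = 256 from rfl, h2, Nat.zero_testBit, decide_eq_true hj, Bool.true_and] at h4
      exact h4.symm
    rw [mulQ_testBit _ _ hj, invQ_testBit _ hj] at h3
    cases hnb : n.testBit j <;> cases hmb : m.testBit j <;> simp_all
  refine Nat.eq_of_testBit_eq fun j => ?_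
  rcases lt_trichotomy j 8 with hj | rfl | hj
  · exact hlow j hj
  · rw [qv, qv, qp_congr 8 hlow] at he
    have := mul_left_cancel he
    cases hnb : n.testBit 8 <;> cases hmb : m.testBit 8 <;> simp [zb, hnb, hmb] at this ⊢
    · exact h.ne this.symm
    · exact h.ne this
  · have h9 : (512 : ℕ) ≤ 2 ^ j := by
      calc (512 : ℕ) = 2 ^ 9 := rfl
        _ ≤ 2 ^ j := Nat.pow_le_pow_right (by norm_num) (by omega)
    rw [Nat.testBit_lt_two_pow (lt_of_lt_of_le hn h9), Nat.testBit_lt_two_pow (lt_of_lt_of_le hm h9)]

theorem qv_act (h : Anti g z) {x : G} (hx : x * z = z * x) {T : List ℕ}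
    (hT : ∀ i < 8, x * g i = qv g z (T.getD i 0) * x) (n : ℕ) :
    x * qv g z n = qv g z (actQ T n) * x := by
  have step : ∀ k ≤ 8, x * qp g n k = qv g z (actK T n k) * x := by
    intro k
    induction k with
    | zero => intro _; rw [qp, actK, qv_zero, mul_one, one_mul]
    | succ k ih =>
      intro hk
      rw [qp, actK, ← mul_assoc, ih (by omega)]
      split
      · rw [frc_eq, frc_eq, mul_assoc, hT k (by omega), ← mul_assoc, qv_mul h]
      · exact mul_one _
  rw [actQ, qv_flip h, qv, ← mul_assoc, step 8 le_rfl, mul_assoc, mul_assoc]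
  congr 1
  cases n.testBit 8
  · simp [zb]
  · simpa [zb] using hx

end CfsgLib.Sporadic.ThOut
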