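import Cfsg.Agent.Lib.Sporadic.ThGL.Rep

/-!
# The image of one vector under a word of matrices of degree 248
-/

set_option autoImplicit false

namespace CfsgLib.Sporadic.ThOut

open CfsgLib.Sporadic.ThGL Matrix

variable (n : ℕ)

/-- The combination of the rows with the lanes of a number, before reduction. -/
noncomputable def vGo (v : ℕ) (G : List ℕ) : ℕ → ℕ :=
  List.rec (motive := fun _ => ℕ → ℕ) (fun _ => 0)
    (fun g _ ih k => Nat.add (Nat.mul (lane v k) g) (ih (Nat.succ k))) G

/-- A vector times a matrix. -/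
noncomputable def vMul (v : ℕ) (G : List ℕ) : ℕ :=
  red (mask 15 n) (mask 65520 n) (mask 65024 n) (vGo v G 0)

/-- A vector times a list of matrices. -/
noncomputable def vProd (L : List (List ℕ)) : ℕ → ℕ :=
  List.rec (motive := fun _ => ℕ → ℕ) (fun acc => acc) (fun G _ ih acc => forced ih (vMul n acc G)) L

/-- A number packing a vector. -/
def GoodV (v : ℕ) (x : Fin n → ZMod 3) : Prop :=
  ∃ f : ℕ → ℕ, (∀ l, f l < 3) ∧ v = P n f ∧ ∀ j : Fin n, x j = (f j : ZMod 3)

variable {n}

theorem vGo_eq (v : ℕ) : ∀ (G : List ℕ) (k : ℕ),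
    vGo v G k = ∑ i ∈ Finset.range G.length, lane v (k + i) * G.getD i 0 := by
  intro G
  induction G with
  | nil => intro k; rfl
  | cons g t ih =>
    intro k
    show lane v k * g + vGo v t (Nat.succ k) = _
    rw [ih, List.length_cons, Finset.sum_range_succ', add_comm]
    congr 1
    exact Finset.sum_congr rfl fun i _ => by rw [List.getD_cons_succ, show k + (i + 1) = Nat.succ k + i by omega]

theorem lane_P {f : ℕ → ℕ} (hf : ∀ l, f l < 3) {k : ℕ} (hk : k < n) : lane (P n f) k = f k :=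
  P_inj n _ _ (fun _ _ => Nat.mod_lt _ B_pos) (fun l _ => lt_trans (hf l) (by norm_num [B]))
    (P_lane n _ (P_lt n f fun l _ => lt_trans (hf l) (by norm_num [B]))) k hk

theorem GoodV.mul (hn' : n ≤ 255) {v : ℕ} {x : Fin n → ZMod 3} (hv : GoodV n v x) {G : List ℕ}
    (hG : okRows n G = true) : GoodV n (vMul n v G) (vecMul x (dec n G)) := by
  obtain ⟨f, hf, rfl, hx⟩ := hv
  obtain ⟨hlen, hrow⟩ := row_of_ok n hG
  let h : ℕ → ℕ := fun j => ∑ k ∈ Finset.range n, f k * (lane (G.getD k 0) j % 3)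
  have e : vGo (P n f) G 0 = P n h := by
    rw [vGo_eq, hlen]
    rw [show P n h = ∑ j ∈ Finset.range n, (∑ k ∈ Finset.range n, f k * (lane (G.getD k 0) j % 3)) * B ^ j from rfl]
    simp only [Finset.sum_mul]
    rw [Finset.sum_comm]
    refine Finset.sum_congr rfl fun k hk => ?_
    have hk' := Finset.mem_range.1 hk
    rw [Nat.zero_add, lane_P hf hk']
    conv_lhs => rw [(hrow k hk').1, ← P_const_mul]
    rfl
  have hb : ∀ l < n, h l < 1024 := fun l _ => by
    refine lt_of_le_of_lt (Finset.sum_le_card_nsmul _ _ 4 fun k _ => ?_) (by simp; omega)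
    exact Nat.mul_le_mul (Nat.le_of_lt_succ (hf k)) (Nat.le_of_lt_succ (Nat.mod_lt _ (by norm_num)))
  refine ⟨fun l => h l % 3, fun l => Nat.mod_lt _ (by norm_num), ?_, fun j => ?_⟩
  · rw [vMul, e, red_P hb]
  · simp only [Matrix.vecMul, dotProduct]
    rw [ZMod.natCast_mod, Nat.cast_sum, Finset.sum_range]
    refine Finset.sum_congr rfl fun k _ => ?_
    rw [hx, Nat.cast_mul, ZMod.natCast_mod]
    rfl

theorem GoodV.prod (hn' : n ≤ 255) : ∀ (L : List (List ℕ)), (∀ G ∈ L, okRows n G = true) →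
    ∀ {v : ℕ} {x : Fin n → ZMod 3}, GoodV n v x →
      GoodV n (vProd n L v) (vecMul x (L.map (dec n)).prod) := by
  intro L
  induction L with
  | nil => intro _ v x hv; show GoodV n v _; simpa using hv
  | cons G t ih =>
    intro hL v x hv
    show GoodV n (forced (vProd n t) (vMul n v G)) _
    rw [forced_eq, List.map_cons, List.prod_cons, ← vecMul_vecMul]
    exact ih (fun H hH => hL H (List.mem_cons_of_mem _ hH)) (hv.mul hn' (hL G List.mem_cons_self))

theorem GoodV.unique {v w : ℕ} {x : Fin n → ZMod 3} (hv : GoodV n v x) (hw : GoodV n w x) : v = w := by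
  obtain ⟨f, hf, rfl, hfx⟩ := hv
  obtain ⟨g, hg, rfl, hgx⟩ := hw
  refine P_congr fun l hl => ?_
  have e' := (ZMod.natCast_eq_natCast_iff' _ _ 3).1 ((hfx ⟨l, hl⟩).symm.trans (hgx ⟨l, hl⟩))
  rwa [Nat.mod_eq_of_lt (hf l), Nat.mod_eq_of_lt (hg l)] at e'

theorem GoodV.same {v : ℕ} {x y : Fin n → ZMod 3} (hv : GoodV n v x) (hw : GoodV n v y) : x = y := by
  obtain ⟨f, hf, rfl, hfx⟩ := hv
  obtain ⟨g, hg, he, hgx⟩ := hw
  funext j
  rw [hfx, hgx, P_inj n f g (fun l _ => lt_trans (hf l) (by norm_num [B]))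
    (fun l _ => lt_trans (hg l) (by norm_num [B])) he j j.2]

/-- The test vector: the first unit vector. -/
theorem good_unit (hn : 0 < n) : GoodV n 1 (fun j => if j.1 = 0 then 1 else 0) := by
  refine ⟨fun l => if l = 0 then 1 else 0, fun l => by dsimp only; split <;> norm_num, ?_, fun j => by
    dsimp only; split <;> simp⟩
  rw [P, Finset.sum_eq_single 0]
  · simp
  · intro j _ hj; rw [if_neg hj, zero_mul]
  · simp [hn.ne']

end CfsgLib.Sporadic.ThOut
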